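import Cfsg.Agent.H103.OT.SubF
import Cfsg.Agent.H175.OT.PTab
import Cfsg.Agent.H274.OT.CYTab
import Cfsg.Agent.H412.OT.Ind
import Cfsg.Agent.H650.OT.Asm
import Cfsg.Agent.H460.OT.BruConc

/-!
# S2539, part 5: the facts `SubF`, `NsA1` for `S_F = {±s}` (helper175)

* `frattini_DF` : `N_F(D_F) ≤ M_F` for every least bad `F` with `S_F ≠ ∅`;
* `subF_pair`, `nsA1_pair` : the facts for `S_F = {s, -s}`.
-/

set_option autoImplicit false
set_option linter.unusedSectionVars false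

namespace Cfsg.Agent.H175.OT

open Subgroup
open Cfsg Cfsg.Lie Cfsg.Lie.ChevalleyDatum
open Cfsg.Agent.ChevalleyStructure Cfsg.Agent.ChevalleyStructure.Elts Cfsg.Agent.ChevalleyStructure.NPerm
open Cfsg.Agent.H412.OT Cfsg.Agent.H194.OT Cfsg.Agent.H186.OT
open Cfsg.Agent.ChevalleyStructure.SL2Hom (up lo)

universe u

/-- **Frattini argument**, abstract. -/
theorem frattini {Y : Type*} [Group Y] {p : ℕ} [Fact p.Prime] {E P F M : Subgroup Y} [Finite E]
    (hPE : P ≤ E) (hP : IsPGroup p ↥P) (hmax : ∀ P' : Subgroup Y, IsPGroup p ↥P' → P ≤ P' → P' ≤ E → P' = P)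
    (hEF : E ≤ F) (hEM : E ≤ M) (hM : F ⊓ normalizer (P : Set Y) ≤ M) {g : Y} (hg : g ∈ F)
    (hn : g ∈ normalizer (E : Set Y)) : g ∈ M := by
  classical
  -- the Sylow subgroups
  have key : ∀ a ∈ normalizer (E : Set Y), ∃ Q : Sylow p E, (Q : Subgroup E).map E.subtype = P.map (MulAut.conj a).toMonoidHom := by
    intro a ha
    have hle : P.map (MulAut.conj a).toMonoidHom ≤ E := by
      rintro _ ⟨x, hx, rfl⟩
      exact (mem_normalizer_iff.1 ha x).1 (hPE hx)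
    refine ⟨⟨(P.map (MulAut.conj a).toMonoidHom).subgroupOf E, ?_, ?_⟩, ?_⟩
    · exact (hP.map _).comap_of_injective E.subtype Subtype.val_injective
    · intro Q hQ hle'
      -- `a⁻¹ Q a` contains `P`
      have h1 : (Q.map E.subtype).map (MulAut.conj a⁻¹).toMonoidHom = P := by
        apply hmax
        · exact (hQ.map _).map _
        · intro x hx
          have h2 : a * x * a⁻¹ ∈ E := hle ⟨x, hx, rfl⟩
          refine ⟨a * x * a⁻¹, ⟨⟨a * x * a⁻¹, h2⟩, hle' ?_, rfl⟩, ?_⟩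
          · exact ⟨x, hx, rfl⟩
          · simp [mul_assoc]
        · rintro _ ⟨_, ⟨x, hx, rfl⟩, rfl⟩
          exact (mem_normalizer_iff.1 (inv_mem ha) _).1 x.2
      refine le_antisymm ?_ hle'
      intro x hx
      rw [mem_subgroupOf, ← h1]
      refine ⟨a⁻¹ * x * a⁻¹⁻¹, ⟨x, ⟨x, hx, rfl⟩, rfl⟩, ?_⟩
      simp [mul_assoc]
    · change ((P.map (MulAut.conj a).toMonoidHom).subgroupOf E).map E.subtype = _
      rw [map_subgroupOf_eq_of_le hle]
  obtain ⟨Q₁, hQ₁⟩ := key 1 (one_mem _)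
  obtain ⟨Q₂, hQ₂⟩ := key g hn
  obtain ⟨e, he⟩ := MulAction.exists_smul_eq E Q₂ Q₁
  have h1 : (e : Y) * g ∈ normalizer (P : Set Y) := by
    have hP1 : P.map (MulAut.conj (1 : Y)).toMonoidHom = P := by
      ext x
      simp
    rw [hP1] at hQ₁
    have h2 : (P.map (MulAut.conj g).toMonoidHom).map (MulAut.conj (e : Y)).toMonoidHom = P := by
      rw [← hQ₂, ← hQ₁, ← he]
      ext x
      constructor
      · rintro ⟨_, ⟨y, hy, rfl⟩, rfl⟩
        exact ⟨e * y * e⁻¹, ⟨y, hy, rfl⟩, rfl⟩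
      · rintro ⟨_, ⟨y, hy, rfl⟩, rfl⟩
        exact ⟨y, ⟨y, hy, rfl⟩, rfl⟩
    rw [mem_normalizer_iff]
    intro x
    constructor
    · intro hx
      rw [← h2]
      refine ⟨g * x * g⁻¹, ⟨x, hx, rfl⟩, ?_⟩
      simp [mul_assoc]
    · intro hx
      rw [← h2] at hx
      obtain ⟨_, ⟨y, hy, rfl⟩, h3⟩ := hx
      have h4 : (e : Y) * (g * y * g⁻¹) * (e : Y)⁻¹ = e * g * x * (e * g)⁻¹ := h3
      have h5 : (e : Y) * g * y * (e * g)⁻¹ = e * g * x * (e * g)⁻¹ := by rw [← h4]; group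
      have h6 := mul_left_cancel (mul_right_cancel h5)
      rwa [← h6]
  have h2 : (e : Y) * g ∈ M := hM ⟨mul_mem (hEF e.2) hg, h1⟩
  exact (mul_mem_cancel_left (hEM e.2)).1 h2

variable {D : ChevalleyDatum} {K : Type u} [Field K] [Fintype K] {p : ℕ} [Fact p.Prime] [CharP K p]

/-- **`N_F(D_F) ≤ M_F`** if `S_F ≠ ∅`. -/
theorem frattini_DF (h : Hyp K p D) {F : Subgroup (GL D.Idx K)} (hF : MinBad D K F) (hne : (SF D K F).Nonempty)
    {g : GL D.Idx K} (hg : g ∈ F) (hn : g ∈ normalizer (DF D K F : Set (GL D.Idx K))) : g ∈ MF D K F := by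
  have hfin : Finite (GL D.Idx K) := inferInstance
  have h7 := H274.OT.mem7 h.mem
  have h13 := H274.OT.card13 h
  have hle : D.diagonalSubgroup K ⊔ DF D K F ≤ D.group K := sup_le (hF.tor.trans hF.le) ((DF_le F).trans hF.le)
  obtain ⟨P, hPE, hP, hTP, hPe, hor, hmax⟩ := H460.OT.sylow_of_gen (p := p) h7 h13 (E := DF D K F)
    (by
      refine iSup₂_le fun r hr => ?_
      refine rootSubgroup_le_DF (F := DF D K F) ?_
      rw [SF_DF]
      exact hr) (H650.OT.SF_closed h hle)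
  have hP1 : P ≠ ⊥ := by
    intro hb
    obtain ⟨r, hr⟩ := hne
    rcases hor r (by rw [SF_DF]; exact hr) with h1 | h1
    · exact H274.OT.root_ne_bot h.inList hr.1 (le_bot_iff.1 (hb ▸ h1))
    · exact H274.OT.root_ne_bot h.inList (NPerm.neg_lt h.inList hr.1) (le_bot_iff.1 (hb ▸ h1))
  exact frattini hPE hP hmax (DF_le F) (DF_le_MF F) (hF.loc h (hPE.trans (DF_le F)) hP hP1 hTP) hg hn

section Pair

variable {F : Subgroup (GL D.Idx K)} {s : ℕ}

theorem DF_pair (hD : InList D) (hS : SF D K F = {s, D.neg s}) : DF D K F = DS D K s := by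
  unfold DF DS
  rw [hS]
  apply le_antisymm
  · refine iSup₂_le fun r hr => ?_
    simp only [Set.mem_insert_iff, Set.mem_singleton_iff] at hr
    rcases hr with rfl | rfl
    · exact le_sup_left
    · exact le_sup_right
  · refine sup_le ?_ ?_
    · exact le_iSup₂ (f := fun r (_ : r ∈ ({s, D.neg s} : Set ℕ)) => D.rootSubgroup K r) s (by simp)
    · exact le_iSup₂ (f := fun r (_ : r ∈ ({s, D.neg s} : Set ℕ)) => D.rootSubgroup K r) (D.neg s) (by simp)

/-- a generator of the torus of `D_s` does not centralise `D_s` -/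
theorem exists_tor (hD : InList D) (hm : D ∈ [chevG2, chevD4, chevF4, chevE6, chevE7, chevE8])
    (hs : s < D.nroots) (hK : 13 ≤ Fintype.card K) :
    ∃ t ∈ D.diagonalSubgroup K, t ∈ DS D K s ∧ chi D K t s ≠ 1 := by
  obtain ⟨c, hc, hc2⟩ := H650.OT.exists_sq_ne hK
  refine ⟨hG hD s c, hG_mem hD hs hc, hG_mem_DS hD hs c hc, ?_⟩
  rw [chi_hG hD hs hs hc, H650.OT.pr_self hm hs]
  exact hc2

/-- elements of `G` normalising `D_s T` and centralising `D_s` normalise `T` -/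
theorem norm_of_comm (hm : D ∈ [chevG2, chevD4, chevF4, chevE6, chevE7, chevE8]) (hK : 13 ≤ Fintype.card K)
    (h2 : (2 : K) ≠ 0) (hs : SD D s) {x : GL D.Idx K}
    (hn' : ∀ t ∈ D.diagonalSubgroup K, x * t * x⁻¹ ∈ DS D K s ⊔ D.diagonalSubgroup K)
    (hc : ∀ y ∈ DS D K s, x * y = y * x) : x ∈ normalizer (D.diagonalSubgroup K : Set (GL D.Idx K)) := by
  have hD := inList_of_mem hm
  have hφ := ph_injective (K := K) hD hs.lt (by omega) h2 hs.odd
  obtain ⟨t₀, ht₀, ht₀', hchi⟩ := exists_tor (K := K) hD hm hs.lt hK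
  refine mem_normalizer_of_le fun t ht => ?_
  refine mem_tor_of_comm hD hs.lt hφ (hn' t ht) ht₀ hchi ?_
  have h3 : t₀ = x * t₀ * x⁻¹ := by rw [hc t₀ ht₀']; group
  have h4 : t * t₀ = t₀ * t := H460.OT.diag_comm hD ht ht₀
  calc x * t * x⁻¹ * t₀ = x * t * x⁻¹ * (x * t₀ * x⁻¹) := by rw [← h3]
    _ = x * (t * t₀) * x⁻¹ := by group
    _ = x * (t₀ * t) * x⁻¹ := by rw [h4]
    _ = (x * t₀ * x⁻¹) * (x * t * x⁻¹) := by group
    _ = t₀ * (x * t * x⁻¹) := by rw [← h3]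

/-- **The facts `SubF` for `S_F = {±s}`.** -/
theorem subF_pair (h : Hyp K p D) (h2 : (2 : K) ≠ 0) (hF : MinBad D K F) (hs : SD D s)
    (hS : SF D K F = {s, D.neg s})
    (hY : centralizer (H274.OT.Y0 D K F : Set (GL D.Idx K)) ⊓ D.group K ≤ DF D K F ⊔ D.diagonalSubgroup K) :
    H103.OT.SubF D K F := by
  have hD := h.inList
  have hK := h.card
  have hDF : DF D K F = DS D K s := DF_pair hD hS
  have hne : (SF D K F).Nonempty := by rw [hS]; exact ⟨s, by simp⟩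
  -- the action of `M_F`
  have hM1 : ∀ x ∈ MF D K F, ∀ y ∈ DS D K s, x * y * x⁻¹ ∈ DS D K s := by
    intro x hx y hy
    have h3 := MF_le_normalizer_DF h hF.le hx
    rw [hDF] at h3
    exact (mem_normalizer_iff.1 h3 y).1 hy
  have hM2 : ∀ x ∈ MF D K F, ∀ t ∈ D.diagonalSubgroup K, x * t * x⁻¹ ∈ DS D K s ⊔ D.diagonalSubgroup K := by
    intro x hx t ht
    have h3 := MF_norm h hF.le hx
    rw [hDF, sup_comm] at h3
    exact (mem_normalizer_iff.1 h3 t).1 (le_sup_right (a := DS D K s) ht)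
  have hcdn : ∀ m ∈ MF D K F, (∀ d ∈ DS D K s, m * d = d * m) →
      m ∈ normalizer (D.diagonalSubgroup K : Set (GL D.Idx K)) := fun m hm hc =>
    norm_of_comm h.mem hK h2 hs (hM2 m hm) hc
  refine ⟨?_, ?_, ?_, ?_, ?_, hY⟩
  · rw [hDF]
    exact DS_perfect hD hs.lt (by omega)
  · rw [hDF]
    intro N hN hn
    rcases normal_cases hD hs.lt (by omega) hN hn with h3 | h3
    · exact Or.inl h3.ge
    · exact Or.inr fun n hn d hd => (h3 n hn d hd).symm
  · rw [hDF]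
    intro x hx hx2
    by_cases hc : ∀ y ∈ DS D K s, x * y = y * x
    · refine ⟨1, one_mem _, ?_⟩
      have e : (1 : GL D.Idx K) * x * 1⁻¹ = x := by group
      rw [e]
      exact hcdn x hx hc
    · obtain ⟨d, hd, n, hn, -⟩ := P2 hD h.mem hK h2 hs (hF.le (MF_le F hx)) (hM1 x hx) (hM2 x hx) (by
        intro y hy
        have h3 := (mem_Zf.1 hx2).2 y (by
          have h4 : y ∈ DF D K F := by rw [hDF]; exact hy
          exact DF_le F h4)
        exact h3.symm) hc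
      refine ⟨d, hd, ?_⟩
      rw [← hn]
      exact mem_normalizer_of_le fun t ht => H3.OT.conj_mem_tor hD n ht
  · rw [hDF]
    exact hcdn
  · intro g hg hn
    exact frattini_DF h hF hne hg (mem_normalizer_of_le hn)

/-- **`NsA1` for `S_F = {±s}`.** -/
theorem nsA1_pair (h : Hyp K p D) (h2 : (2 : K) ≠ 0) (hs : SD D s)
    (hS : SF D K F = {s, D.neg s}) : H103.OT.NsA1 D K F := by
  have hD := h.inList
  have hK := h.card
  have hDF : DF D K F = DS D K s := DF_pair hD hS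
  have hφ := ph_injective (K := K) hD hs.lt (by omega) h2 hs.odd
  intro q hq x hx hxq
  rw [hDF] at hx ⊢
  rw [Nat.card_eq_fintype_card] at hq
  subst hq
  rcases P1 hD hs.lt (by omega) h2 hs.odd hx (fun y _ => by rw [hxq, one_mul, mul_one]) with h3 | h3
  · exact Or.inl h3
  · refine Or.inr ⟨?_, h3⟩
    obtain ⟨t₀, ht₀, ht₀', hchi⟩ := exists_tor (K := K) hD h.mem hs.lt hK
    exact mem_tor_of_comm hD hs.lt hφ (pow_mem hx 2) ht₀ hchi (h3 t₀ ht₀')

end Pair

theorem sd_of (hD : D = chevF4 ∨ D = chevG2) {s : ℕ} (hs : s < D.nroots) : SD D s := by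
  rcases hD with rfl | rfl
  · exact sd_F4 hs
  · exact sd_G2 hs

theorem two_ne_zero' (h : Hyp K p D) (hD : D = chevF4 ∨ D = chevG2) : (2 : K) ≠ 0 := by
  have hp2 : p ≠ 2 := h.ne2 (by rcases hD with rfl | rfl <;> simp)
  intro h0
  have h1 : ((2 : ℕ) : K) = 0 := by exact_mod_cast h0
  rw [CharP.cast_eq_zero_iff K p] at h1
  exact hp2 ((Nat.prime_dvd_prime_iff_eq (Fact.out : p.Prime) Nat.prime_two).1 h1)

/-- **The facts `SubF` for `S_F = {±s}` in `F₄`, `G₂`.** -/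
theorem subA1 (h : Hyp K p D) (hD : D = chevF4 ∨ D = chevG2) {F : Subgroup (GL D.Idx K)} (hF : MinBad D K F) {s : ℕ}
    (hs : s < D.nroots) (hS : SF D K F = {s, D.neg s}) : H103.OT.SubF D K F :=
  subF_pair h (two_ne_zero' h hD) hF (sd_of hD hs) hS (H274.OT.cent_Y0_pair hD h.card hs hS)

/-- **`NsA1` for `S_F = {±s}` in `F₄`, `G₂`.** -/
theorem nsA1 (h : Hyp K p D) (hD : D = chevF4 ∨ D = chevG2) {F : Subgroup (GL D.Idx K)} {s : ℕ}
    (hs : s < D.nroots) (hS : SF D K F = {s, D.neg s}) : H103.OT.NsA1 D K F :=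
  nsA1_pair h (two_ne_zero' h hD) (sd_of hD hs) hS

end Cfsg.Agent.H175.OT
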