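import Cfsg.Agent.H175.OT.R1
import Cfsg.Agent.H194.OT.RankOneChev
import Cfsg.Agent.H3.OT.Weyl
import Cfsg.Agent.H334.Symp.ModelSetup
import Cfsg.Agent.H259.NatMod
import Cfsg.Agent.H82.RootCent
import Cfsg.Agent.H460.OT.Tor
import Cfsg.Agent.H428.OT.Tab

/-!
# S2539, part 5: the subgroups `D_s = ⟨X_s, X_{-s}⟩` (helper175)

* `ph_injective` : `SL₂(K) ≅ D_s` if some `⟨a, s^∨⟩` is odd and `2 ≠ 0`;
* `DS_perfect`, `normal_cases`, `involution` (P3);
* `P1` : an element `h` of `D_s T` with `h ^ (q - 1)` centralising `D_s`;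
* `P2` : an element normalising `D_s` and `D_s T` with square centralising `D_s`.
-/

set_option autoImplicit false
set_option linter.unusedSectionVars false

namespace Cfsg.Agent.H175.OT

open Subgroup
open Cfsg Cfsg.Lie Cfsg.Lie.ChevalleyDatum
open Cfsg.Agent.ChevalleyStructure Cfsg.Agent.ChevalleyStructure.Elts Cfsg.Agent.ChevalleyStructure.NPerm
open Cfsg.Agent.H412.OT Cfsg.Agent.H194.OT
open Cfsg.Agent.ChevalleyStructure.SL2Hom (up lo)

universe u

variable {D : ChevalleyDatum} {K : Type u} [Field K]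

/-- `D_s = ⟨X_s, X_{-s}⟩` -/
def DS (D : ChevalleyDatum) (K : Type u) [Field K] (s : ℕ) : Subgroup (GL D.Idx K) :=
  D.rootSubgroup K s ⊔ D.rootSubgroup K (D.neg s)

/-- the facts on the root `s` that are used -/
structure SD (D : ChevalleyDatum) (s : ℕ) : Prop where
  lt : s < D.nroots
  odd : ∃ a < D.nroots, Odd (pr D s a)
  sep : ∀ r < D.nroots, (∀ g < D.nroots, pr D g s = 0 → pr D g r = 0) → r = s ∨ r = D.neg s
  bd : ∀ r < D.nroots, ∀ g < D.nroots, |pr D r g| ≤ 3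

section

variable {s : ℕ} (hD : InList D) (hs : s < D.nroots)

theorem range_ph : (ph hD hs K).range = DS D K s := SL2Hom.range_phi _

theorem mem_DS_iff {x : GL D.Idx K} : x ∈ DS D K s ↔ ∃ A, ph hD hs K A = x := by
  rw [← range_ph hD hs]
  rfl

theorem ph_mem (A : Matrix.SpecialLinearGroup (Fin 2) K) : ph hD hs K A ∈ DS D K s := (mem_DS_iff hD hs).2 ⟨A, rfl⟩

include hD hs in
theorem hG_mem_DS (c : K) (hc : c ≠ 0) : hG hD s c ∈ DS D K s := by
  rw [← Units.val_mk0 hc, ← ph_hd hD hs]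
  exact ph_mem hD hs _

/-- the central elements of `SL₂(K)` -/
theorem center_SL2 {A : Matrix.SpecialLinearGroup (Fin 2) K} (hA : A ∈ center (Matrix.SpecialLinearGroup (Fin 2) K)) :
    A = 1 ∨ A = hd (-1) := by
  rw [mem_center_iff] at hA
  obtain ⟨k, hk⟩ := scalar_of_comm (P := (A : Matrix (Fin 2) (Fin 2) K)) (congrArg Subtype.val (hA (up 1)))
    (congrArg Subtype.val (hA (lo 1)))
  have h00 : A.1 0 0 = k := by rw [hk]; simp
  have h01 : A.1 0 1 = 0 := by rw [hk]; simp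
  have h10 : A.1 1 0 = 0 := by rw [hk]; simp
  have h11 : A.1 1 1 = k := by rw [hk]; simp
  have hdet := det2 A
  rw [h00, h01, h10, h11] at hdet
  have h1 : (k - 1) * (k + 1) = 0 := by linear_combination hdet
  rcases mul_eq_zero.1 h1 with h2 | h2
  · left
    have h3 : k = 1 := sub_eq_zero.1 h2
    rw [h3] at h00 h11
    exact ext2 h00 h01 h10 h11
  · right
    have h3 : k = -1 := eq_neg_of_add_eq_zero_left h2
    rw [h3] at h00 h11
    exact ext2 h00 h01 h10 (by rw [h11]; simp [hd, mk2])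

theorem ph_injective [Fintype K] (hK : 3 < Fintype.card K) (h2 : (2 : K) ≠ 0)
    (hodd : ∃ a < D.nroots, Odd (pr D s a)) : Function.Injective (ph hD hs K) := by
  rw [← MonoidHom.ker_eq_bot_iff]
  rcases H334.Symp.El.sl_normal hK (ph hD hs K).ker inferInstance with h1 | h1
  · exfalso
    have h3 : (up 1 : Matrix.SpecialLinearGroup (Fin 2) K) ∈ (ph hD hs K).ker := by rw [h1]; exact mem_top _
    rw [MonoidHom.mem_ker, ph_up, xG_eq_one_iff hD hs] at h3
    exact one_ne_zero h3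
  · rw [eq_bot_iff]
    intro A hA
    rcases center_SL2 (h1 hA) with rfl | rfl
    · exact one_mem _
    · exfalso
      rw [MonoidHom.mem_ker, ph_hd] at hA
      obtain ⟨a, ha, ho⟩ := hodd
      have hne : ((-1 : Kˣ) : K) ≠ 0 := Units.ne_zero _
      have h3 := chi_hG hD hs ha hne
      rw [hA, chi_one] at h3
      rw [Units.val_neg, Units.val_one, Odd.neg_one_zpow ho] at h3
      apply h2
      linear_combination h3

end

section

variable {s : ℕ} (hD : InList D) (hs : s < D.nroots) [Fintype K]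

include hD hs in
/-- **(P3)** `D_s` is perfect. -/
theorem DS_perfect (hK : 3 < Fintype.card K) : ⁅DS D K s, DS D K s⁆ = DS D K s := by
  have h1 := H259.NatMod.commutator_eq_top hK
  rw [← range_ph hD hs, MonoidHom.range_eq_map, ← map_commutator]
  congr 1

include hD hs in
/-- **(P3)** a subgroup of `D_s` normalised by `D_s` is `D_s` or central. -/
theorem normal_cases (hK : 3 < Fintype.card K) {N : Subgroup (GL D.Idx K)} (hN : N ≤ DS D K s)
    (hn : ∀ x ∈ DS D K s, ∀ y ∈ N, x * y * x⁻¹ ∈ N) : N = DS D K s ∨ ∀ y ∈ N, ∀ x ∈ DS D K s, x * y = y * x := by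
  have h1 : (N.comap (ph hD hs K)).Normal := ⟨fun A hA B => by
    rw [mem_comap] at hA ⊢
    rw [map_mul, map_mul, map_inv]
    exact hn _ (ph_mem hD hs B) _ hA⟩
  rcases H334.Symp.El.sl_normal hK _ h1 with h2 | h2
  · left
    refine le_antisymm hN ?_
    intro x hx
    obtain ⟨A, rfl⟩ := (mem_DS_iff hD hs).1 hx
    have h3 : A ∈ N.comap (ph hD hs K) := by rw [h2]; exact mem_top A
    exact h3
  · right
    intro y hy x hx
    obtain ⟨A, rfl⟩ := (mem_DS_iff hD hs).1 (hN hy)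
    obtain ⟨B, rfl⟩ := (mem_DS_iff hD hs).1 hx
    have h3 : A ∈ center (Matrix.SpecialLinearGroup (Fin 2) K) := h2 hy
    rw [← map_mul, ← map_mul, mem_center_iff.1 h3 B]

/-- the involutions of `SL₂(K)` -/
theorem inv_SL2 (h2 : (2 : K) ≠ 0) {A : Matrix.SpecialLinearGroup (Fin 2) K} (hA : A ^ 2 = 1) : A = 1 ∨ A = hd (-1) := by
  have h1 : (A : Matrix (Fin 2) (Fin 2) K) * A = 1 := by
    rw [pow_two] at hA
    exact congrArg Subtype.val hA
  have h3 := Mat2.sq (A : Matrix (Fin 2) (Fin 2) K)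
  rw [h1, Matrix.SpecialLinearGroup.det_coe, one_smul] at h3
  have h4 : (A : Matrix (Fin 2) (Fin 2) K).trace • (A : Matrix (Fin 2) (Fin 2) K) = (2 : K) • 1 := by
    linear_combination (norm := module) -h3
  by_cases hs : ∀ c : K, (A : Matrix (Fin 2) (Fin 2) K) ≠ c • (1 : Matrix (Fin 2) (Fin 2) K)
  · exact absurd (Mat2.indep hs h4).2 h2
  · push Not at hs
    obtain ⟨k, hk⟩ := hs
    refine center_SL2 (mem_center_iff.2 fun B => ?_)
    apply Subtype.ext
    change (B : Matrix (Fin 2) (Fin 2) K) * (A : Matrix (Fin 2) (Fin 2) K) = (A : Matrix (Fin 2) (Fin 2) K) * (B : Matrix (Fin 2) (Fin 2) K)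
    rw [hk, mul_smul_comm, smul_mul_assoc, mul_one, one_mul]

include hD hs in
/-- **(P3)** the only involution of `D_s` is `h_s(-1)`. -/
theorem involution (hK : 3 < Fintype.card K) (h2 : (2 : K) ≠ 0) (hodd : ∃ a < D.nroots, Odd (pr D s a))
    {x : GL D.Idx K} (hx : x ∈ DS D K s) (hx2 : x ^ 2 = 1) : x = 1 ∨ x = hG hD s (-1) := by
  obtain ⟨A, rfl⟩ := (mem_DS_iff hD hs).1 hx
  rw [← map_pow, map_eq_one_iff _ (ph_injective hD hs hK h2 hodd)] at hx2
  rcases inv_SL2 h2 hx2 with rfl | rfl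
  · left; exact map_one _
  · right
    rw [ph_hd, Units.val_neg, Units.val_one]

include hD hs in
/-- elements of `D_s ⊔ T` -/
theorem mem_DS_sup {h : GL D.Idx K} (hh : h ∈ DS D K s ⊔ D.diagonalSubgroup K) :
    ∃ A, ∃ t ∈ D.diagonalSubgroup K, h = ph hD hs K A * t := by
  have hn : D.diagonalSubgroup K ≤ normalizer (DS D K s : Set (GL D.Idx K)) := by
    have key : ∀ t ∈ D.diagonalSubgroup K, ∀ x ∈ DS D K s, t * x * t⁻¹ ∈ DS D K s := by
      intro t ht x hx
      obtain ⟨A, rfl⟩ := (mem_DS_iff hD hs).1 hx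
      rw [(act_iff hD hs ht (c := Units.mk0 _ (chi_ne_zero hD ht s)) rfl).conj]
      exact ph_mem hD hs _
    intro t ht
    rw [mem_normalizer_iff]
    intro x
    refine ⟨key t ht x, fun hx => ?_⟩
    have h1 := key t⁻¹ (inv_mem ht) _ hx
    have e : t⁻¹ * (t * x * t⁻¹) * t⁻¹⁻¹ = x := by group
    rwa [e] at h1
  have h1 : h ∈ ((DS D K s ⊔ D.diagonalSubgroup K : Subgroup (GL D.Idx K)) : Set (GL D.Idx K)) := hh
  rw [coe_mul_of_right_le_normalizer_left _ _ hn, Set.mem_mul] at h1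
  obtain ⟨x, hx, t, ht, e⟩ := h1
  obtain ⟨A, rfl⟩ := (mem_DS_iff hD hs).1 hx
  exact ⟨A, t, ht, e.symm⟩

include hD hs in
/-- **(P1)** -/
theorem P1 (hK : 3 < Fintype.card K) (h2 : (2 : K) ≠ 0) (hodd : ∃ a < D.nroots, Odd (pr D s a))
    {h : GL D.Idx K} (hh : h ∈ DS D K s ⊔ D.diagonalSubgroup K)
    (hq : ∀ x ∈ DS D K s, h ^ (Fintype.card K - 1) * x = x * h ^ (Fintype.card K - 1)) :
    (∃ d ∈ DS D K s, d * h * d⁻¹ ∈ D.diagonalSubgroup K) ∨ ∀ x ∈ DS D K s, h ^ 2 * x = x * h ^ 2 := by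
  obtain ⟨A, t, ht, rfl⟩ := mem_DS_sup hD hs hh
  rcases p1 h2 (ph_injective hD hs hK h2 hodd) (T := D.diagonalSubgroup K)
    (fun c => by rw [ph_hd]; exact hG_mem hD hs c.ne_zero) ht
    (act_iff hD hs ht (c := Units.mk0 _ (chi_ne_zero hD ht s)) rfl) (A := A) (fun B => hq _ (ph_mem hD hs B)) with h1 | h1
  · left
    obtain ⟨B, hB⟩ := h1
    exact ⟨_, ph_mem hD hs B, hB⟩
  · right
    intro x hx
    obtain ⟨B, rfl⟩ := (mem_DS_iff hD hs).1 hx
    exact h1 B

end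

/-! ## (P2) -/

section

variable {s : ℕ} (hD : InList D) (hs : s < D.nroots) [Fintype K]

/-- all scalars are afforded by `T` on `X_r` -/
theorem exists_chi (hm : D ∈ [chevG2, chevD4, chevF4, chevE6, chevE7, chevE8]) {r : ℕ} (hr : r < D.nroots) (c : Kˣ) :
    ∃ t ∈ D.diagonalSubgroup K, chi D K t r = c := by
  have hD : InList D := inList_of_mem hm
  obtain ⟨i, hi, j, hj, hg⟩ := exists_gcd hm hr
  have hb := Int.gcd_eq_gcd_ab (D.cartan i r) (D.cartan j r)
  rw [hg] at hb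
  set a := Int.gcdA (D.cartan i r) (D.cartan j r)
  set b := Int.gcdB (D.cartan i r) (D.cartan j r)
  have hc := c.ne_zero
  have hi' := NPerm.simple_lt hD hi
  have hj' := NPerm.simple_lt hD hj
  have hti := hG_mem (K := K) hD hi' (zpow_ne_zero a hc)
  have htj := hG_mem (K := K) hD hj' (zpow_ne_zero b hc)
  refine ⟨hG hD (D.simple i) ((c : K) ^ a) * hG hD (D.simple j) ((c : K) ^ b), mul_mem hti htj, ?_⟩
  have hval : ∀ {i : ℕ} (hi : i < D.rank) {x : K} (hx : x ≠ 0), chi D K (hG hD (D.simple i) x) r = x ^ D.cartan i r := by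
    intro i hi x hx
    have e1 := hG_simple_conj hD hi hr hx (1 : K)
    rw [tor_conj_xG hD (hG_mem hD (NPerm.simple_lt hD hi) hx) hr, mul_one, mul_one] at e1
    exact xG_injective hD hr e1
  rw [chi_mul hD hti htj, hval hi (zpow_ne_zero a hc), hval hj (zpow_ne_zero b hc), ← zpow_mul, ← zpow_mul,
    ← zpow_add₀ hc]
  have e : a * D.cartan i r + b * D.cartan j r = 1 := by
    push_cast at hb
    linarith
  rw [e, zpow_one]

theorem chi_pow (hD : InList D) {t : GL D.Idx K} (ht : t ∈ D.diagonalSubgroup K) (r : ℕ) (n : ℕ) :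
    chi D K (t ^ n) r = chi D K t r ^ n := by
  induction n with
  | zero => rw [pow_zero, pow_zero, chi_one]
  | succ n ih => rw [pow_succ, pow_succ, chi_mul hD (pow_mem ht n) ht, ih]

/-- elements of `T` are determined by the values of the roots -/
theorem eq_of_chi (hD : InList D) {t t' : GL D.Idx K} (ht : t ∈ D.diagonalSubgroup K)
    (ht' : t' ∈ D.diagonalSubgroup K) (h : ∀ r < D.nroots, chi D K t r = chi D K t' r) : t = t' := by
  apply Units.ext
  rw [coe_tor hD ht, coe_tor hD ht']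
  congr 1
  funext x
  rcases x with i | r
  · rfl
  · rw [Sum.elim_inr, Sum.elim_inr]
    exact h r r.2

theorem tor_pow (hD : InList D) {t : GL D.Idx K} (ht : t ∈ D.diagonalSubgroup K) : t ^ (Fintype.card K - 1) = 1 := by
  refine eq_of_chi hD (pow_mem ht _) (one_mem _) fun r _ => ?_
  rw [chi_pow hD ht, chi_one]
  exact FiniteField.pow_card_sub_one_eq_one _ (chi_ne_zero hD ht r)

include hD hs in
/-- `t ∈ T` centralises `D_s` iff `s(t) = 1` -/
theorem comm_DS_iff {t : GL D.Idx K} (ht : t ∈ D.diagonalSubgroup K) :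
    (∀ x ∈ DS D K s, t * x = x * t) ↔ chi D K t s = 1 := by
  constructor
  · intro h
    have h1 := h (xG hD s 1) (le_sup_left (a := D.rootSubgroup K s) (xG_mem_rootSubgroup hD s 1))
    rw [← mul_inv_eq_iff_eq_mul, tor_conj_xG hD ht hs, mul_one] at h1
    exact xG_injective hD hs h1
  · intro h x hx
    obtain ⟨A, rfl⟩ := (mem_DS_iff hD hs).1 hx
    have h1 := (act_iff hD hs ht (c := 1) (by rw [h]; rfl)).conj A
    have h2 : cj (1 : Kˣ) A = A := by
      apply ext2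
      · rfl
      · show ((1 : Kˣ) : K) * A.1 0 1 = A.1 0 1
        rw [Units.val_one, one_mul]
      · show (((1 : Kˣ)⁻¹ : Kˣ) : K) * A.1 1 0 = A.1 1 0
        rw [inv_one, Units.val_one, one_mul]
      · rfl
    rw [h2] at h1
    rwa [mul_inv_eq_iff_eq_mul] at h1

theorem diag_of {A : Matrix.SpecialLinearGroup (Fin 2) K} (h01 : A.1 0 1 = 0) (h10 : A.1 1 0 = 0) :
    ∃ c : Kˣ, A = hd c := by
  have hdet := det2 A
  rw [h01, zero_mul, sub_zero] at hdet
  have hα : A.1 0 0 ≠ 0 := left_ne_zero_of_mul_eq_one hdet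
  refine ⟨Units.mk0 _ hα, ?_⟩
  apply ext2
  · rfl
  · exact h01
  · exact h10
  · show A.1 1 1 = (((Units.mk0 _ hα)⁻¹ : Kˣ) : K)
    rw [Units.val_inv_eq_inv_val]
    exact eq_inv_of_mul_eq_one_right hdet

include hD hs in
/-- the centraliser in `D_s T` of an element of `T` that does not centralise `D_s` -/
theorem mem_tor_of_comm (hφ : Function.Injective (ph hD hs K)) {h t : GL D.Idx K}
    (hh : h ∈ DS D K s ⊔ D.diagonalSubgroup K) (ht : t ∈ D.diagonalSubgroup K) (hc : chi D K t s ≠ 1)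
    (hcomm : h * t = t * h) : h ∈ D.diagonalSubgroup K := by
  obtain ⟨A, t₁, ht₁, rfl⟩ := mem_DS_sup hD hs hh
  have h1 := (act_iff hD hs ht (c := Units.mk0 _ (chi_ne_zero hD ht s)) rfl).conj A
  have h2 : t * ph hD hs K A * t⁻¹ = ph hD hs K A := by
    have e : t * t₁ = t₁ * t := Cfsg.Agent.H460.OT.diag_comm hD ht ht₁
    have e2 : t * ph hD hs K A * t⁻¹ = (t * (ph hD hs K A * t₁)) * (t₁⁻¹ * t⁻¹) := by group
    rw [e2, ← hcomm, mul_assoc (ph hD hs K A), ← e]
    group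
  rw [h2] at h1
  have h3 := hφ h1
  have h01 : A.1 0 1 = chi D K t s * A.1 0 1 := congrFun (congrFun (congrArg Subtype.val h3) 0) 1
  have h10 : A.1 1 0 = (((Units.mk0 _ (chi_ne_zero hD ht s))⁻¹ : Kˣ) : K) * A.1 1 0 :=
    congrFun (congrFun (congrArg Subtype.val h3) 1) 0
  have h01' : A.1 0 1 = 0 := by
    by_contra h4
    exact hc (mul_right_cancel₀ h4 (by rw [one_mul]; exact h01.symm))
  have h10' : A.1 1 0 = 0 := by
    by_contra h4
    apply hc
    have h5 : (((Units.mk0 _ (chi_ne_zero hD ht s))⁻¹ : Kˣ) : K) = 1 :=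
      mul_right_cancel₀ h4 (by rw [one_mul]; exact h10.symm)
    rw [Units.val_inv_eq_inv_val, Units.val_mk0, inv_eq_one] at h5
    exact h5
  obtain ⟨c, rfl⟩ := diag_of h01' h10'
  rw [ph_hd]
  exact mul_mem (hG_mem hD hs c.ne_zero) ht₁

end

section

variable {s : ℕ} (hD : InList D) [Fintype K]

theorem exists_gen (K : Type u) [Field K] [Fintype K] : ∃ c : Kˣ, ∀ k : ℤ, (c : K) ^ k = 1 → ((Fintype.card K - 1 : ℕ) : ℤ) ∣ k := by
  classical
  obtain ⟨c, hc⟩ := IsCyclic.exists_generator (α := Kˣ)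
  refine ⟨c, fun k hk => ?_⟩
  have h1 : c ^ k = 1 := Units.ext (by rw [Units.val_zpow_eq_zpow_val, hk]; rfl)
  have h2 := orderOf_dvd_iff_zpow_eq_one.2 h1
  rwa [orderOf_eq_card_of_forall_mem_zpowers hc, Nat.card_eq_fintype_card, Fintype.card_units] at h2

include hD in
/-- the root subgroups in `D_s` -/
theorem root_le_DS (hK : 13 ≤ Fintype.card K) (hs : SD D s) {r : ℕ} (hr : r < D.nroots) {x : GL D.Idx K}
    (hx : x ∈ DS D K s) {a : K} (ha : a ≠ 0) (e : x = xG hD r a) : r = s ∨ r = D.neg s := by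
  refine hs.sep r hr fun g hg h0 => ?_
  obtain ⟨c, hc⟩ := exists_gen K
  have h1 : chi D K (hG hD g (c : K)) s = 1 := by
    rw [chi_hG hD hg hs.lt c.ne_zero, h0, zpow_zero]
  have h2 := (comm_DS_iff hD hs.lt (hG_mem hD hg c.ne_zero)).2 h1 x hx
  rw [e, ← mul_inv_eq_iff_eq_mul, tor_conj_xG hD (hG_mem hD hg c.ne_zero) hr, chi_hG hD hg hr c.ne_zero] at h2
  have h3 := xG_injective hD hr h2
  have h4 : (c : K) ^ pr D g r = 1 := mul_right_cancel₀ ha (by rw [one_mul]; exact h3)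
  have h5 := hc _ h4
  have h6 := hs.bd g hg r hr
  by_contra h7
  have h8 := Int.le_of_dvd (abs_pos.2 h7) ((dvd_abs _ _).2 h5)
  omega

theorem ActM.unique {G : Type*} [Group G] {φ : Matrix.SpecialLinearGroup (Fin 2) K →* G} (hφ : Function.Injective φ) {x : G}
    {P Q : Matrix (Fin 2) (Fin 2) K} (hP : ActM φ x P) (hQ : ActM φ x Q) : ∃ k : K, k ≠ 0 ∧ P = k • Q := by
  have h1 : Q⁻¹ * Q = 1 := Matrix.nonsing_inv_mul Q (isUnit_iff_ne_zero.2 hQ.1)
  have h1' : Q * Q⁻¹ = 1 := Matrix.mul_nonsing_inv Q (isUnit_iff_ne_zero.2 hQ.1)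
  have key : ∀ A : Matrix.SpecialLinearGroup (Fin 2) K,
      (A : Matrix (Fin 2) (Fin 2) K) * (Q⁻¹ * P) = (Q⁻¹ * P) * (A : Matrix (Fin 2) (Fin 2) K) := by
    intro A
    obtain ⟨B, hB⟩ := exists_cj hP.1 A
    obtain ⟨C, hC⟩ := exists_cj hQ.1 A
    have h2 : B = C := hφ (by rw [← hP.2 A B hB, hQ.2 A C hC])
    subst h2
    calc (A : Matrix (Fin 2) (Fin 2) K) * (Q⁻¹ * P) = Q⁻¹ * (Q * (A : Matrix (Fin 2) (Fin 2) K)) * (Q⁻¹ * P) := by
          rw [← mul_assoc Q⁻¹ Q, h1, one_mul]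
      _ = Q⁻¹ * (B : Matrix (Fin 2) (Fin 2) K) * (Q * Q⁻¹) * P := by rw [← hC]; simp only [mul_assoc]
      _ = Q⁻¹ * P * (A : Matrix (Fin 2) (Fin 2) K) := by rw [h1', mul_one, mul_assoc, hB, mul_assoc]
  obtain ⟨k, hk⟩ := scalar_of_comm (key _) (key _)
  have h2 : P = k • Q := by
    have h3 := congrArg (Q * ·) hk
    simp only [← mul_assoc, h1', one_mul, mul_smul_comm, mul_one] at h3
    exact h3
  refine ⟨k, ?_, h2⟩
  rintro rfl
  apply hP.1
  rw [h2, zero_smul, Matrix.det_zero]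

/-- an element of `D_s T` acting by a diagonal matrix lies in `T` -/
theorem mem_tor_of_diag (hs : s < D.nroots) (hφ : Function.Injective (ph hD hs K)) {h : GL D.Idx K}
    (hh : h ∈ DS D K s ⊔ D.diagonalSubgroup K) {a d : K} (hA : ActM (ph hD hs K) h !![a, 0; 0, d]) :
    h ∈ D.diagonalSubgroup K := by
  obtain ⟨A, t₁, ht₁, rfl⟩ := mem_DS_sup hD hs hh
  have h1 := (actM_phi (φ := ph hD hs K) A).mul
    (actM_act (act_iff hD hs ht₁ (c := Units.mk0 _ (chi_ne_zero hD ht₁ s)) rfl))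
  obtain ⟨k, hk, h2⟩ := h1.unique hφ hA
  have hc0 := chi_ne_zero hD ht₁ s
  rw [Matrix.eta_fin_two (A : Matrix (Fin 2) (Fin 2) K), Matrix.mul_fin_two] at h2
  have e01 := congrFun (congrFun h2 0) 1
  have e10 := congrFun (congrFun h2 1) 0
  simp at e01 e10
  obtain ⟨c, rfl⟩ := diag_of (A := A) e01 (by
    rcases e10 with h5 | h5
    · exact h5
    · exact absurd h5 hc0)
  rw [ph_hd]
  exact mul_mem (hG_mem hD hs c.ne_zero) ht₁

end

section

variable {s : ℕ} (hD : InList D) [Fintype K]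

include hD in
theorem root_le_group (r : ℕ) : D.rootSubgroup K r ≤ D.group K := by
  intro x hx
  obtain ⟨t, rfl⟩ := (mem_rootSubgroup_iff hD _ _).1 hx
  exact xG_mem_group hD r t

include hD in
theorem DS_le_group (s : ℕ) : DS D K s ≤ D.group K := sup_le (root_le_group hD _) (root_le_group hD _)

/-- a finite subgroup: `x T x⁻¹ ≤ T` gives `x ∈ N(T)` -/
theorem mem_normalizer_of_le {G : Type*} [Group G] {T : Subgroup G} [Finite T] {x : G} (h : ∀ t ∈ T, x * t * x⁻¹ ∈ T) :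
    x ∈ normalizer (T : Set G) := by
  have h1 : T.map (MulAut.conj x).toMonoidHom ≤ T := by
    rintro _ ⟨t, ht, rfl⟩
    exact h t ht
  have h2 : T.map (MulAut.conj x).toMonoidHom = T := by
    refine eq_of_le_of_card_ge h1 ?_
    rw [Nat.card_congr (T.equivMapOfInjective _ (MulAut.conj x).injective).symm.toEquiv]
  rw [mem_normalizer_iff]
  intro t
  refine ⟨h t, fun ht => ?_⟩
  rw [← h2] at ht
  obtain ⟨t', ht', e⟩ := ht
  change x * t' * x⁻¹ = x * t * x⁻¹ at e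
  have e2 : t' = t := by
    have := congrArg (fun y => x⁻¹ * y * x) e
    simpa only [mul_assoc, inv_mul_cancel_left, inv_mul_cancel, mul_one] using this
  rw [← e2]
  exact ht'

/-- the action of a monomial element normalising `D_s` on `D_s` -/
theorem actM_mono (hK : 13 ≤ Fintype.card K) (h2 : (2 : K) ≠ 0) (hs : SD D s) {n : ↥(D.monomialSubgroup K)}
    (hn : ∀ y ∈ DS D K s, (n : GL D.Idx K) * y * (n : GL D.Idx K)⁻¹ ∈ DS D K s) :
    ∃ P, ActM (ph hD hs.lt K) (n : GL D.Idx K) P := by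
  have hns := NPerm.neg_lt hD hs.lt
  have hφ := ph_injective (K := K) hD hs.lt (by omega) h2 hs.odd
  have key : ∀ n : ↥(D.monomialSubgroup K), (∀ y ∈ DS D K s, (n : GL D.Idx K) * y * (n : GL D.Idx K)⁻¹ ∈ DS D K s) →
      permHom hD K n ⟨s, hs.lt⟩ = (⟨s, hs.lt⟩ : Fin D.nroots) → permHom hD K n ⟨D.neg s, hns⟩ = (⟨D.neg s, hns⟩ : Fin D.nroots) →
      ∃ P, ActM (ph hD hs.lt K) (n : GL D.Idx K) P := by
    intro n hn e1 e2
    obtain ⟨c, hc, h1⟩ := H3.OT.conj_xG hD n ⟨s, hs.lt⟩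
    obtain ⟨c', hc', h3⟩ := H3.OT.conj_xG hD n ⟨D.neg s, hns⟩
    rw [e1] at h1
    rw [e2] at h3
    simp only at h1 h3
    -- `c c' = 1`
    have hcc : c * c' = 1 := by
      have g1 : (n : GL D.Idx K) * ph hD hs.lt K wd * (n : GL D.Idx K)⁻¹ =
          ph hD hs.lt K (up c * (lo (-c') * up c)) := by
        have e : (wd : Matrix.SpecialLinearGroup (Fin 2) K) = up 1 * (lo (-1) * up 1) := by
          apply ext2 <;> rw [mul2, mul2, mul2]
          · show (0 : K) = 1 * (1 * 1 + 0 * 0) + 1 * (-1 * 1 + 1 * 0)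
            ring
          · show (1 : K) = 1 * (1 * 1 + 0 * 1) + 1 * (-1 * 1 + 1 * 1)
            ring
          · show (-1 : K) = 0 * (1 * 1 + 0 * 0) + 1 * (-1 * 1 + 1 * 0)
            ring
          · show (0 : K) = 0 * (1 * 1 + 0 * 1) + 1 * (-1 * 1 + 1 * 1)
            ring
        rw [e, map_mul, map_mul, map_mul, map_mul, ph_up, ph_lo, ph_up, ph_lo]
        have a1 := h1 1
        have a2 := h3 (-1)
        rw [mul_one] at a1
        rw [mul_neg, mul_one] at a2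
        rw [← a1, ← a2]
        group
      have g2 : (wd : Matrix.SpecialLinearGroup (Fin 2) K) * up 1 = lo (-1) * wd := by
        apply ext2 <;> rw [mul2, mul2]
        · show (0 : K) * 1 + 1 * 0 = 1 * 0 + 0 * (-1)
          ring
        · show (0 : K) * 1 + 1 * 1 = 1 * 1 + 0 * 0
          ring
        · show (-1 : K) * 1 + 0 * 0 = -1 * 0 + 1 * (-1)
          ring
        · show (-1 : K) * 1 + 0 * 1 = -1 * 1 + 1 * 0
          ring
      have g3 := congrArg (fun A => (n : GL D.Idx K) * ph hD hs.lt K A * (n : GL D.Idx K)⁻¹) g2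
      simp only [map_mul] at g3
      have g4 : (n : GL D.Idx K) * (ph hD hs.lt K wd * ph hD hs.lt K (up 1)) * (n : GL D.Idx K)⁻¹ =
          ((n : GL D.Idx K) * ph hD hs.lt K wd * (n : GL D.Idx K)⁻¹) *
            ((n : GL D.Idx K) * ph hD hs.lt K (up 1) * (n : GL D.Idx K)⁻¹) := by group
      have g5 : (n : GL D.Idx K) * (ph hD hs.lt K (lo (-1)) * ph hD hs.lt K wd) * (n : GL D.Idx K)⁻¹ =
          ((n : GL D.Idx K) * ph hD hs.lt K (lo (-1)) * (n : GL D.Idx K)⁻¹) *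
            ((n : GL D.Idx K) * ph hD hs.lt K wd * (n : GL D.Idx K)⁻¹) := by group
      rw [g4, g5, g1, ph_up, ph_lo, h1, h3, ← ph_up hD hs.lt, ← ph_lo hD hs.lt, ← map_mul, ← map_mul] at g3
      have g6 := congrArg Subtype.val (hφ g3)
      have g7 := congrFun (congrFun g6 0) 1
      change (up c * (lo (-c') * up c) * up (c * 1) : Matrix.SpecialLinearGroup (Fin 2) K).1 0 1 =
        (lo (c' * -1) * (up c * (lo (-c') * up c)) : Matrix.SpecialLinearGroup (Fin 2) K).1 0 1 at g7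
      simp only [mul2] at g7
      simp only [up, lo, Matrix.of_apply, Matrix.cons_val', Matrix.cons_val_zero, Matrix.cons_val_one,
        Matrix.cons_val_fin_one] at g7
      have g8 : c * (1 - c * c') = 0 := by linear_combination g7
      have g9 := (mul_eq_zero.1 g8).resolve_left hc
      linear_combination -g9
    have hact : Act (ph hD hs.lt K) (n : GL D.Idx K) (Units.mk0 c hc) := by
      constructor
      · intro u
        rw [ph_up, ph_up, h1]
        rfl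
      · intro u
        rw [ph_lo, ph_lo, h3, Units.val_inv_eq_inv_val, Units.val_mk0, eq_inv_of_mul_eq_one_right hcc]
    exact ⟨_, actM_act hact⟩
  -- the images of `± s`
  have hsn : D.neg s ≠ s := fun e => by
    have h3 := H428.OT.pr_neg hD hs.lt
    rw [e, H3.OT.pr_self hD hs.lt] at h3
    omega
  have himg : ∀ m : ↥(D.monomialSubgroup K), (∀ y ∈ DS D K s, (m : GL D.Idx K) * y * (m : GL D.Idx K)⁻¹ ∈ DS D K s) →
      ∀ r (hr : r < D.nroots), r = s ∨ r = D.neg s →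
        ((permHom hD K m ⟨r, hr⟩ : Fin D.nroots) : ℕ) = s ∨ ((permHom hD K m ⟨r, hr⟩ : Fin D.nroots) : ℕ) = D.neg s := by
    intro m hm r hr h3
    obtain ⟨c, hc, h4⟩ := H3.OT.conj_xG hD m ⟨r, hr⟩
    refine root_le_DS hD hK hs (Fin.is_lt _) (hm (xG hD r 1) ?_) (mul_ne_zero hc one_ne_zero) (h4 1)
    rcases h3 with rfl | rfl
    · exact (le_sup_left (a := D.rootSubgroup K r)) (xG_mem_rootSubgroup hD r 1)
    · exact (le_sup_right (b := D.rootSubgroup K (D.neg s))) (xG_mem_rootSubgroup hD _ 1)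
  have hfix : ∀ m : ↥(D.monomialSubgroup K), (∀ y ∈ DS D K s, (m : GL D.Idx K) * y * (m : GL D.Idx K)⁻¹ ∈ DS D K s) →
      ((permHom hD K m ⟨s, hs.lt⟩ : Fin D.nroots) : ℕ) = s → ∃ P, ActM (ph hD hs.lt K) (m : GL D.Idx K) P := by
    intro m hm h3
    refine key m hm (Fin.ext h3) ?_
    rcases himg m hm (D.neg s) hns (Or.inr rfl) with h4 | h4
    · exfalso
      have h5 : permHom hD K m ⟨D.neg s, hns⟩ = permHom hD K m ⟨s, hs.lt⟩ := Fin.ext (h4.trans h3.symm)
      have h6 := (permHom hD K m).injective h5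
      exact hsn (congrArg Fin.val h6)
    · exact Fin.ext h4
  rcases himg n hn s hs.lt (Or.inl rfl) with h3 | h3
  · exact hfix n hn h3
  · -- multiply by `n_s`
    have hw : nG hD s 1 ∈ D.monomialSubgroup K := nG_one_mem_monomial hD hs.lt
    have hwφ : ph hD hs.lt K wd = nG hD s 1 := ph_wd hD hs.lt
    set m : ↥(D.monomialSubgroup K) := n * ⟨nG hD s 1, hw⟩ with hm
    have hmc : (m : GL D.Idx K) = (n : GL D.Idx K) * ph hD hs.lt K wd := by rw [hm, hwφ]; rfl
    have hmn : ∀ y ∈ DS D K s, (m : GL D.Idx K) * y * (m : GL D.Idx K)⁻¹ ∈ DS D K s := by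
      intro y hy
      have e : (m : GL D.Idx K) * y * (m : GL D.Idx K)⁻¹ =
          (n : GL D.Idx K) * (ph hD hs.lt K wd * y * (ph hD hs.lt K wd)⁻¹) * (n : GL D.Idx K)⁻¹ := by
        rw [hmc]; group
      rw [e]
      exact hn _ (mul_mem (mul_mem (ph_mem hD hs.lt _) hy) (inv_mem (ph_mem hD hs.lt _)))
    have h4 : ((permHom hD K n ⟨D.neg s, hns⟩ : Fin D.nroots) : ℕ) = s := by
      rcases himg n hn (D.neg s) hns (Or.inr rfl) with h4 | h4
      · exact h4
      · exfalso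
        have h5 : permHom hD K n ⟨D.neg s, hns⟩ = permHom hD K n ⟨s, hs.lt⟩ := Fin.ext (h4.trans h3.symm)
        have h6 := (permHom hD K n).injective h5
        exact hsn (congrArg Fin.val h6)
    have h5 : ((permHom hD K m ⟨s, hs.lt⟩ : Fin D.nroots) : ℕ) = s := by
      obtain ⟨c, hc, h6⟩ := H3.OT.conj_xG hD m ⟨s, hs.lt⟩
      obtain ⟨c', hc', h7⟩ := H3.OT.conj_xG hD n ⟨D.neg s, hns⟩
      have e : (m : GL D.Idx K) * xG hD s 1 * (m : GL D.Idx K)⁻¹ =
          (n : GL D.Idx K) * (ph hD hs.lt K wd * ph hD hs.lt K (up 1) * (ph hD hs.lt K wd)⁻¹) * (n : GL D.Idx K)⁻¹ := by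
        rw [hmc, ph_up]; group
      have e2 : (wd : Matrix.SpecialLinearGroup (Fin 2) K) * up 1 * wd⁻¹ = lo (-1) := by
        rw [mul_inv_eq_iff_eq_mul]
        apply ext2 <;> rw [mul2, mul2]
        · show (0 : K) * 1 + 1 * 0 = 1 * 0 + 0 * (-1)
          ring
        · show (0 : K) * 1 + 1 * 1 = 1 * 1 + 0 * 0
          ring
        · show (-1 : K) * 1 + 0 * 0 = -1 * 0 + 1 * (-1)
          ring
        · show (-1 : K) * 1 + 0 * 1 = -1 * 1 + 1 * 0
          ring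
      rw [← map_inv, ← map_mul, ← map_mul, e2, ph_lo] at e
      have e3 := h6 1
      simp only at e3
      rw [e, show (n : GL D.Idx K) * xG hD (D.neg s) (-1) * (n : GL D.Idx K)⁻¹ = _ from h7 (-1)] at e3
      have e4 := H82.RootCent.eq_of_xG_eq hD (Fin.is_lt _) (Fin.is_lt _)
        (mul_ne_zero hc' (neg_ne_zero.2 one_ne_zero)) e3
      rw [e4, h4]
    obtain ⟨P, hP⟩ := hfix m hmn h5
    have h6 := hP.mul (actM_phi (φ := ph hD hs.lt K) wd⁻¹)
    rw [hmc, map_inv, mul_inv_cancel_right] at h6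
    exact ⟨_, h6⟩

end

/-! ## (P2) -/

section

variable {s : ℕ} (hD : InList D) [Fintype K]

include hD in
/-- an element `x` of `G` normalising `D_s` with `x T x⁻¹ ≤ D_s T` lies in `D_s N(T)`. -/
theorem exists_frattini (hm : D ∈ [chevG2, chevD4, chevF4, chevE6, chevE7, chevE8]) (hK : 13 ≤ Fintype.card K)
    (h2 : (2 : K) ≠ 0) (hs : SD D s) {x : GL D.Idx K} (hx : x ∈ D.group K)
    (hn : ∀ y ∈ DS D K s, x * y * x⁻¹ ∈ DS D K s)
    (hn' : ∀ t ∈ D.diagonalSubgroup K, x * t * x⁻¹ ∈ DS D K s ⊔ D.diagonalSubgroup K) :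
    ∃ d ∈ DS D K s, ∃ n : ↥(D.monomialSubgroup K), (n : GL D.Idx K) = d * x := by
  have hφ := ph_injective (K := K) hD hs.lt (by omega) h2 hs.odd
  obtain ⟨c, hc⟩ := exists_gen K
  obtain ⟨t, ht, htc⟩ := exists_chi hm hs.lt c
  -- `x` conjugates `D_s` onto itself
  have hback : ∀ y ∈ DS D K s, ∃ z ∈ DS D K s, x * z * x⁻¹ = y := by
    have h1 : x ∈ normalizer (DS D K s : Set (GL D.Idx K)) := mem_normalizer_of_le hn
    intro y hy
    refine ⟨x⁻¹ * y * x, ?_, by group⟩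
    have h3 := (mem_normalizer_iff.1 (inv_mem h1) y).1 hy
    rwa [inv_inv] at h3
  set y := x * t * x⁻¹ with hy
  have hyq : y ^ (Fintype.card K - 1) = 1 := by
    rw [hy, conj_pow, tor_pow hD ht, mul_one, mul_inv_cancel]
  have hc2 : c.val ^ (2 : ℤ) ≠ 1 := by
    intro h3
    have h4 := hc 2 h3
    have h5 := Int.le_of_dvd (by norm_num) h4
    omega
  have hc1 : c.val ≠ 1 := by
    intro h3
    apply hc2
    rw [h3, one_zpow]
  rcases P1 hD hs.lt (by omega) h2 hs.odd (hn' t ht) (fun z _ => by rw [← hy, hyq, one_mul, mul_one]) with h3 | h3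
  · obtain ⟨d, hd, h4⟩ := h3
    refine ⟨d, hd, ?_⟩
    have hx' : d * x ∈ D.group K := mul_mem (DS_le_group hD s hd) hx
    set t' := d * (x * t * x⁻¹) * d⁻¹ with ht'
    have ht's : chi D K t' s ≠ 1 := by
      intro h5
      apply hc1
      rw [← htc]
      rw [← comm_DS_iff hD hs.lt h4] at h5
      rw [← comm_DS_iff hD hs.lt ht]
      intro z hz
      have h6 := h5 (d * (x * z * x⁻¹) * d⁻¹) (mul_mem (mul_mem hd (hn z hz)) (inv_mem hd))
      have e1 : t' * (d * (x * z * x⁻¹) * d⁻¹) = (d * x) * (t * z) * (d * x)⁻¹ := by rw [ht']; group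
      have e2 : (d * (x * z * x⁻¹) * d⁻¹) * t' = (d * x) * (z * t) * (d * x)⁻¹ := by rw [ht']; group
      rw [e1, e2] at h6
      exact mul_left_cancel (mul_right_cancel h6)
    have hN : d * x ∈ normalizer (D.diagonalSubgroup K : Set (GL D.Idx K)) := by
      refine mem_normalizer_of_le fun r hr => ?_
      refine mem_tor_of_comm hD hs.lt hφ ?_ h4 ht's ?_
      · have e : d * x * r * (d * x)⁻¹ = d * (x * r * x⁻¹) * d⁻¹ := by group
        rw [e]
        exact mul_mem (mul_mem ((le_sup_left (b := D.diagonalSubgroup K)) hd) (hn' r hr))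
          (inv_mem ((le_sup_left (b := D.diagonalSubgroup K)) hd))
      · have e : t * r = r * t := Cfsg.Agent.H460.OT.diag_comm hD ht hr
        have e1 : d * x * r * (d * x)⁻¹ * t' = (d * x) * (r * t) * (d * x)⁻¹ := by rw [ht']; group
        have e2 : t' * (d * x * r * (d * x)⁻¹) = (d * x) * (t * r) * (d * x)⁻¹ := by rw [ht']; group
        rw [e1, e2, e]
    exact ⟨⟨d * x, H3.OT.mem_monomial_of_norm hD (by rw [Nat.card_eq_fintype_card]; omega) hx' hN⟩, rfl⟩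
  · exfalso
    apply hc2
    have h4 : chi D K (t ^ 2) s = 1 := by
      rw [← comm_DS_iff hD hs.lt (pow_mem ht 2)]
      intro z hz
      have h6 := h3 (x * z * x⁻¹) (hn z hz)
      have e1 : (x * t * x⁻¹) ^ 2 * (x * z * x⁻¹) = x * (t ^ 2 * z) * x⁻¹ := by rw [conj_pow]; group
      have e2 : (x * z * x⁻¹) * (x * t * x⁻¹) ^ 2 = x * (z * t ^ 2) * x⁻¹ := by rw [conj_pow]; group
      rw [e1, e2] at h6
      exact mul_left_cancel (mul_right_cancel h6)
    rw [chi_pow hD ht, htc] at h4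
    exact_mod_cast h4

/-- elements of `G` normalising `D_s` and `D_s T` act on `D_s` by matrices -/
theorem exists_actM (hm : D ∈ [chevG2, chevD4, chevF4, chevE6, chevE7, chevE8]) (hK : 13 ≤ Fintype.card K)
    (h2 : (2 : K) ≠ 0) (hs : SD D s) {x : GL D.Idx K} (hx : x ∈ D.group K)
    (hn : ∀ y ∈ DS D K s, x * y * x⁻¹ ∈ DS D K s)
    (hn' : ∀ t ∈ D.diagonalSubgroup K, x * t * x⁻¹ ∈ DS D K s ⊔ D.diagonalSubgroup K) :
    ∃ P, ActM (ph hD hs.lt K) x P := by
  obtain ⟨d, hd, n, e⟩ := exists_frattini hD hm hK h2 hs hx hn hn'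
  obtain ⟨P, hP⟩ := actM_mono hD hK h2 hs (n := n) (by
    intro y hy
    rw [e]
    have e2 : d * x * y * (d * x)⁻¹ = d * (x * y * x⁻¹) * d⁻¹ := by group
    rw [e2]
    exact mul_mem (mul_mem hd (hn y hy)) (inv_mem hd))
  obtain ⟨A, rfl⟩ := (mem_DS_iff hD hs.lt).1 hd
  have h3 := (actM_phi (φ := ph hD hs.lt K) A⁻¹).mul hP
  rw [e, map_inv, inv_mul_cancel_left] at h3
  exact ⟨_, h3⟩

/-- **(P2)** -/
theorem P2 (hm : D ∈ [chevG2, chevD4, chevF4, chevE6, chevE7, chevE8]) (hK : 13 ≤ Fintype.card K)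
    (h2 : (2 : K) ≠ 0) (hs : SD D s) {x : GL D.Idx K} (hx : x ∈ D.group K)
    (hn : ∀ y ∈ DS D K s, x * y * x⁻¹ ∈ DS D K s)
    (hn' : ∀ t ∈ D.diagonalSubgroup K, x * t * x⁻¹ ∈ DS D K s ⊔ D.diagonalSubgroup K)
    (hx2 : ∀ y ∈ DS D K s, x ^ 2 * y = y * x ^ 2) (hc : ¬ ∀ y ∈ DS D K s, x * y = y * x) :
    ∃ d ∈ DS D K s, ∃ n : ↥(D.monomialSubgroup K), (n : GL D.Idx K) = d * x * d⁻¹ ∧
      ((permHom hD K n ⟨s, hs.lt⟩ : Fin D.nroots) : ℕ) = D.neg s := by
  have hφ := ph_injective (K := K) hD hs.lt (by omega) h2 hs.odd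
  obtain ⟨P, hP⟩ := exists_actM hD hm hK h2 hs hx hn hn'
  obtain ⟨B, a, b, hB⟩ := p2 hφ hP (fun h => hc fun y hy => by
      obtain ⟨A, rfl⟩ := (mem_DS_iff hD hs.lt).1 hy
      exact h A) (fun A => hx2 _ (ph_mem hD hs.lt A))
  set d := ph hD hs.lt K B with hd
  have hdm : d ∈ DS D K s := ph_mem hD hs.lt B
  refine ⟨d, hdm, ?_⟩
  have hab : a ≠ 0 ∧ b ≠ 0 := by
    have h3 := hB.1
    rw [Matrix.det_fin_two_of, zero_mul, zero_sub, neg_ne_zero] at h3
    exact ⟨left_ne_zero_of_mul h3, right_ne_zero_of_mul h3⟩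
  have hN : d * x * d⁻¹ ∈ normalizer (D.diagonalSubgroup K : Set (GL D.Idx K)) := by
    refine mem_normalizer_of_le fun t ht => ?_
    have h3 : (d * x * d⁻¹) * t * (d * x * d⁻¹)⁻¹ ∈ DS D K s ⊔ D.diagonalSubgroup K := by
      obtain ⟨A, t₁, ht₁, e⟩ := mem_DS_sup hD hs.lt (h := d⁻¹ * t * d) (mul_mem (mul_mem
        (inv_mem ((le_sup_left (b := D.diagonalSubgroup K)) hdm)) ((le_sup_right (a := DS D K s)) ht))
        ((le_sup_left (b := D.diagonalSubgroup K)) hdm))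
      have e2 : (d * x * d⁻¹) * t * (d * x * d⁻¹)⁻¹ = d * (x * (d⁻¹ * t * d) * x⁻¹) * d⁻¹ := by group
      rw [e2, e]
      have e3 : x * (ph hD hs.lt K A * t₁) * x⁻¹ = (x * ph hD hs.lt K A * x⁻¹) * (x * t₁ * x⁻¹) := by group
      rw [e3]
      exact mul_mem (mul_mem ((le_sup_left (b := D.diagonalSubgroup K)) hdm)
        (mul_mem ((le_sup_left (b := D.diagonalSubgroup K)) (hn _ (ph_mem hD hs.lt A))) (hn' t₁ ht₁)))
        (inv_mem ((le_sup_left (b := D.diagonalSubgroup K)) hdm))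
    -- the action of the conjugate of `t`
    have h4 := actM_act (act_iff hD hs.lt ht (c := Units.mk0 _ (chi_ne_zero hD ht s)) rfl)
    obtain ⟨Q, hQ⟩ : ∃ Q, ActM (ph hD hs.lt K) (d * x * d⁻¹)⁻¹ Q ∧ Q = !![0, b⁻¹; a⁻¹, 0] := by
      refine ⟨_, ⟨by rw [Matrix.det_fin_two_of]; simp [hab.1, hab.2], fun A C h5 => ?_⟩, rfl⟩
      have h6 : (A : Matrix (Fin 2) (Fin 2) K) * !![0, a; b, 0] = !![0, a; b, 0] * (C : Matrix (Fin 2) (Fin 2) K) := by
        have h7 : !![0, a; b, 0] * ((C : Matrix (Fin 2) (Fin 2) K) * !![0, b⁻¹; a⁻¹, 0]) * !![0, a; b, 0] =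
            !![0, a; b, 0] * (!![0, b⁻¹; a⁻¹, 0] * (A : Matrix (Fin 2) (Fin 2) K)) * !![0, a; b, 0] := by rw [h5]
        have h8 : !![0, a; b, 0] * !![0, b⁻¹; a⁻¹, 0] = (1 : Matrix (Fin 2) (Fin 2) K) := by
          rw [Matrix.mul_fin_two, Matrix.one_fin_two]; simp [hab.1, hab.2]
        have h9 : !![0, b⁻¹; a⁻¹, 0] * !![0, a; b, 0] = (1 : Matrix (Fin 2) (Fin 2) K) := by
          rw [Matrix.mul_fin_two, Matrix.one_fin_two]; simp [hab.1, hab.2]
        have h10 : !![0, a; b, 0] * ((C : Matrix (Fin 2) (Fin 2) K) * !![0, b⁻¹; a⁻¹, 0]) * !![0, a; b, 0] =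
            !![0, a; b, 0] * (C : Matrix (Fin 2) (Fin 2) K) := by
          rw [mul_assoc, mul_assoc (C : Matrix (Fin 2) (Fin 2) K), h9, mul_one]
        have h11 : !![0, a; b, 0] * (!![0, b⁻¹; a⁻¹, 0] * (A : Matrix (Fin 2) (Fin 2) K)) * !![0, a; b, 0] =
            (A : Matrix (Fin 2) (Fin 2) K) * !![0, a; b, 0] := by
          rw [← mul_assoc, h8, one_mul]
        rw [← h11, ← h7, h10]
      have h7 := hB.2 C A h6
      rw [← h7]
      group
    obtain ⟨hQ, hQe⟩ := hQ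
    have h5 := (hB.mul h4).mul hQ
    rw [hQe, Matrix.mul_fin_two, Matrix.mul_fin_two] at h5
    refine mem_tor_of_diag hD hs.lt hφ h3 (a := a * a⁻¹) (d := b * chi D K t s * b⁻¹) (h5.congr ?_)
    simp
  have hg : d * x * d⁻¹ ∈ D.group K :=
    mul_mem (mul_mem (DS_le_group hD s hdm) hx) (inv_mem (DS_le_group hD s hdm))
  refine ⟨⟨d * x * d⁻¹, H3.OT.mem_monomial_of_norm hD (by rw [Nat.card_eq_fintype_card]; omega) hg hN⟩, rfl, ?_⟩
  obtain ⟨c, hc', h3⟩ := H3.OT.conj_xG hD ⟨d * x * d⁻¹, H3.OT.mem_monomial_of_norm hD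
    (by rw [Nat.card_eq_fintype_card]; omega) hg hN⟩ ⟨s, hs.lt⟩
  have h4 : (lo (b * a⁻¹) : Matrix.SpecialLinearGroup (Fin 2) K).1 * !![0, a; b, 0] = !![0, a; b, 0] * (up 1 : Matrix.SpecialLinearGroup (Fin 2) K).1 := by
    simp only [lo, up]
    rw [Matrix.mul_fin_two, Matrix.mul_fin_two]
    simp [hab.1]
  have h5 := hB.2 _ _ h4
  rw [ph_up, ph_lo] at h5
  have h6 := (h3 1).symm.trans h5
  exact (H82.RootCent.eq_of_xG_eq hD (Fin.is_lt _) (NPerm.neg_lt hD hs.lt) (mul_ne_zero hc' one_ne_zero) h6).symm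

end

end Cfsg.Agent.H175.OT
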