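import Mathlib

/-!
# S2539, part 5: facts on `2 × 2` matrices (helper175)

`P` a `2 × 2` matrix over a finite field `K`, `q = |K|`.

* `sq` : Cayley–Hamilton;
* `exists_root_or` : `P ^ (q - 1)` scalar, `P` invertible, `q` odd: `P` has an eigenvalue in `K` or `P ^ 2` is scalar;
* `exists_conj_upper`, `exists_conj_diag` : `P` with an eigenvalue and `P ^ (q - 1)` scalar is `SL₂(K)`-conjugate to
  a diagonal matrix;
* `exists_conj_anti` : a non-scalar `P` with `P ^ 2` scalar is `SL₂(K)`-conjugate to an antidiagonal matrix.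
-/

set_option autoImplicit false

namespace Cfsg.Agent.H175.OT.Mat2

open Matrix

universe u

variable {K : Type u} [Field K]

local notation "M2" => Matrix (Fin 2) (Fin 2)

/-- Cayley–Hamilton -/
theorem sq (P : M2 K) : P * P = P.trace • P - P.det • (1 : M2 K) := by
  ext i j
  rw [Matrix.mul_apply, Fin.sum_univ_two, Matrix.sub_apply, Matrix.smul_apply, Matrix.smul_apply,
    Matrix.det_fin_two, Matrix.trace_fin_two]
  fin_cases i <;> fin_cases j <;> simp <;> ring

/-- `1, P` are independent for non-scalar `P` -/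
theorem indep {P : M2 K} (hP : ∀ c : K, P ≠ c • (1 : M2 K)) {x y : K} (h : x • P = y • (1 : M2 K)) :
    x = 0 ∧ y = 0 := by
  have hx : x = 0 := by
    by_contra hx
    apply hP (x⁻¹ * y)
    rw [mul_smul, ← h, smul_smul, inv_mul_cancel₀ hx, one_smul]
  refine ⟨hx, ?_⟩
  have h1 := congrFun (congrFun h 0) 0
  rw [hx, zero_smul, Matrix.smul_apply, Matrix.one_apply_eq, smul_eq_mul, mul_one] at h1
  exact h1.symm

theorem det_sub (P : M2 K) (c : K) : (P - c • (1 : M2 K)).det = c ^ 2 - P.trace * c + P.det := by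
  rw [Matrix.det_fin_two, Matrix.det_fin_two, Matrix.trace_fin_two]
  simp [Matrix.sub_apply, Matrix.smul_apply]
  ring

/-- no eigenvalue in `K`: `P ^ q ≠ P` -/
theorem pow_card_ne [Fintype K] {P : M2 K} (hP : ∀ c : K, (P - c • (1 : M2 K)).det ≠ 0) :
    P ^ Fintype.card K ≠ P := by
  classical
  intro h
  have h1 : (Polynomial.X ^ Fintype.card K - Polynomial.X : Polynomial K) =
      ∏ c : K, (Polynomial.X - Polynomial.C c) := by
    have h2 := FiniteField.roots_X_pow_card_sub_X K
    have hmon : (Polynomial.X ^ Fintype.card K - Polynomial.X : Polynomial K).Monic :=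
      Polynomial.monic_X_pow_sub (by rw [Polynomial.degree_X]; exact_mod_cast Fintype.one_lt_card)
    have h3 := Polynomial.prod_multiset_X_sub_C_of_monic_of_roots_card_eq hmon (by
      rw [h2, FiniteField.X_pow_card_sub_X_natDegree_eq K Fintype.one_lt_card]
      rfl)
    rw [← h3, h2]
    rfl
  have h2 : Polynomial.aeval P (Polynomial.X ^ Fintype.card K - Polynomial.X : Polynomial K) = 0 := by
    rw [map_sub, map_pow, Polynomial.aeval_X, h, sub_self]
  have key : ∀ s : Finset K, (Polynomial.aeval P (∏ c ∈ s, (Polynomial.X - Polynomial.C c) : Polynomial K)).det ≠ 0 := by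
    intro s
    induction s using Finset.induction_on with
    | empty => rw [Finset.prod_empty, map_one, Matrix.det_one]; exact one_ne_zero
    | insert c s hc ih =>
      rw [Finset.prod_insert hc, map_mul, Matrix.det_mul]
      refine mul_ne_zero ?_ ih
      rw [map_sub, Polynomial.aeval_X, Polynomial.aeval_C, Algebra.algebraMap_eq_smul_one]
      exact hP c
  apply key Finset.univ
  rw [← h1, h2, Matrix.det_zero]

/-- `P` invertible, `P ^ q = λ P`: `P` has an eigenvalue in `K` or `P ^ 2` is scalar. -/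
theorem exists_root_or [Fintype K] (h2 : (2 : K) ≠ 0) {P : M2 K} {l : K} (hl : P ^ Fintype.card K = l • P)
    (hdet : P.det ≠ 0) :
    (∃ c : K, (P - c • (1 : M2 K)).det = 0) ∨ ∃ c : K, P * P = c • (1 : M2 K) := by
  classical
  by_cases hr : ∃ c : K, (P - c • (1 : M2 K)).det = 0
  · exact Or.inl hr
  push Not at hr
  right
  by_cases hs : ∃ c : K, P = c • (1 : M2 K)
  · obtain ⟨c, hc⟩ := hs
    refine ⟨c * c, ?_⟩
    rw [hc, smul_mul_smul_comm, mul_one]
  push Not at hs
  obtain ⟨p, hp⟩ := CharP.exists K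
  have hpp : Fact p.Prime := ⟨CharP.char_is_prime K p⟩
  obtain ⟨n, -, hn⟩ := FiniteField.card K p
  have hP2 := sq P
  -- Frobenius
  have hfr : (P * P) ^ Fintype.card K = (P.trace • P) ^ Fintype.card K - (P.det • (1 : M2 K)) ^ Fintype.card K := by
    rw [hP2, hn]
    exact sub_pow_char_pow_of_commute _ _ (Commute.smul_right (Commute.smul_left (Commute.one_right P) _) _)
  rw [smul_pow, smul_pow, one_pow, FiniteField.pow_card, FiniteField.pow_card,
    (Commute.refl P).mul_pow, hl, smul_mul_smul_comm, hP2] at hfr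
  have h3 : (l * l * P.trace - P.trace * l) • P = (l * l * P.det - P.det) • (1 : M2 K) := by
    linear_combination (norm := module) hfr
  obtain ⟨h4, h5⟩ := indep hs h3
  have hl0 : l ≠ 0 := by
    rintro rfl
    rw [zero_smul] at hl
    have h6 := congrArg Matrix.det hl
    rw [Matrix.det_pow, Matrix.det_zero] at h6
    exact hdet (pow_eq_zero_iff (Fintype.card_ne_zero) |>.1 h6)
  have h6 : l = 1 ∨ l = -1 := by
    have h7 : (l - 1) * (l + 1) * P.det = 0 := by linear_combination h5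
    rcases mul_eq_zero.1 h7 with h8 | h8
    · rcases mul_eq_zero.1 h8 with h9 | h9
      · exact Or.inl (sub_eq_zero.1 h9)
      · exact Or.inr (eq_neg_of_add_eq_zero_left h9)
    · exact absurd h8 hdet
  rcases h6 with rfl | rfl
  · rw [one_smul] at hl
    exact absurd hl (pow_card_ne hr)
  · have h7 : P.trace = 0 := by
      have h8 : 2 * P.trace = 0 := by linear_combination h4
      exact (mul_eq_zero.1 h8).resolve_left h2
    refine ⟨-P.det, ?_⟩
    rw [hP2, h7, zero_smul, zero_sub, neg_smul]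

/-! ## conjugation in `SL₂` -/

local notation "SL2" => Matrix.SpecialLinearGroup (Fin 2)

theorem coe_inv_mul (B : SL2 K) : (B : M2 K) * ((B⁻¹ : SL2 K) : M2 K) = 1 := by
  have h := congrArg Subtype.val (mul_inv_cancel B)
  exact h

theorem coe_mul_inv (B : SL2 K) : ((B⁻¹ : SL2 K) : M2 K) * (B : M2 K) = 1 := by
  have h := congrArg Subtype.val (inv_mul_cancel B)
  exact h

/-- two independent vectors are the columns of a scalar multiple ... of an element of `SL₂` -/
theorem exists_cols {a b c d : K} (h : a * d - b * c = 1) :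
    ∃ B : SL2 K, (B : M2 K) = !![a, b; c, d] := ⟨⟨!![a, b; c, d], by rw [Matrix.det_fin_two_of]; exact h⟩, rfl⟩

/-- a non-zero vector is the first column of an element of `SL₂` -/
theorem exists_col {v : Fin 2 → K} (hv : v ≠ 0) : ∃ B : SL2 K, (B : M2 K) 0 0 = v 0 ∧ (B : M2 K) 1 0 = v 1 := by
  by_cases h0 : v 0 = 0
  · have h1 : v 1 ≠ 0 := by
      intro h1
      apply hv
      funext i
      fin_cases i
      · exact h0
      · exact h1
    obtain ⟨B, hB⟩ := exists_cols (a := v 0) (b := -(v 1)⁻¹) (c := v 1) (d := 0) (by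
      rw [mul_zero, neg_mul, inv_mul_cancel₀ h1]; ring)
    refine ⟨B, ?_, ?_⟩ <;> rw [hB] <;> rfl
  · obtain ⟨B, hB⟩ := exists_cols (a := v 0) (b := 0) (c := v 1) (d := (v 0)⁻¹) (by
      rw [mul_inv_cancel₀ h0]; ring)
    refine ⟨B, ?_, ?_⟩ <;> rw [hB] <;> rfl

/-- `P` with an eigenvalue in `K` is `SL₂(K)`-conjugate to an upper triangular matrix. -/
theorem exists_conj_upper {P : M2 K} {c : K} (hc : (P - c • (1 : M2 K)).det = 0) :
    ∃ B : SL2 K, ((B⁻¹ : SL2 K) : M2 K) * P * (B : M2 K) = !![c, (((B⁻¹ : SL2 K) : M2 K) * P * (B : M2 K)) 0 1;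
      0, P.trace - c] := by
  obtain ⟨v, hv, hPv⟩ := Matrix.exists_mulVec_eq_zero_iff.2 hc
  obtain ⟨B, h0, h1⟩ := exists_col hv
  have e0 := congrFun hPv 0
  have e1 := congrFun hPv 1
  simp [Matrix.mulVec, dotProduct, Fin.sum_univ_two, Matrix.sub_apply, Matrix.smul_apply] at e0 e1
  have hB := B.2
  rw [Matrix.det_fin_two] at hB
  have hinv : ((B⁻¹ : SL2 K) : M2 K) = !![B.1 1 1, -B.1 0 1; -B.1 1 0, B.1 0 0] := by
    rw [Matrix.SpecialLinearGroup.coe_inv, Matrix.adjugate_fin_two]
  refine ⟨B, ?_⟩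
  rw [hinv]
  rw [← h0, ← h1] at e0 e1
  ext i j
  rw [Matrix.trace_fin_two]
  fin_cases i <;> fin_cases j <;>
    simp only [Fin.zero_eta, Fin.mk_one, Matrix.mul_apply, Fin.sum_univ_two, Matrix.of_apply, Matrix.cons_val', Matrix.cons_val_zero,
      Matrix.cons_val_one, Matrix.cons_val_fin_one]
  · linear_combination B.1 1 1 * e0 - B.1 0 1 * e1 + c * hB
  · linear_combination -B.1 1 0 * e0 + B.1 0 0 * e1
  · linear_combination (P 0 0 + P 1 1) * hB - (B.1 1 1 * e0 - B.1 0 1 * e1 + c * hB)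

/-- powers of upper triangular matrices with equal diagonal entries -/
theorem upper_pow (c b : K) (n : ℕ) : (!![c, b; 0, c] : M2 K) ^ (n + 1) = !![c ^ (n + 1), (n + 1) * c ^ n * b; 0, c ^ (n + 1)] := by
  induction n with
  | zero => rw [zero_add, pow_one, pow_one, pow_zero, Nat.cast_zero, zero_add, one_mul, one_mul]
  | succ n ih =>
    rw [pow_succ, ih]
    ext i j
    fin_cases i <;> fin_cases j <;> simp [Matrix.mul_apply, Fin.sum_univ_two] <;> ring

/-- `P` with an eigenvalue in `K` and `P ^ q = λ P` is `SL₂(K)`-conjugate to a diagonal matrix. -/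
theorem exists_conj_diag [Fintype K] {P : M2 K} {l : K} (hl : P ^ Fintype.card K = l • P) (hdet : P.det ≠ 0)
    (hr : ∃ c : K, (P - c • (1 : M2 K)).det = 0) :
    ∃ (B : SL2 K) (a d : K), ((B⁻¹ : SL2 K) : M2 K) * P * (B : M2 K) = !![a, 0; 0, d] := by
  obtain ⟨c, hc⟩ := hr
  obtain ⟨B, hB⟩ := exists_conj_upper hc
  set b := (((B⁻¹ : SL2 K) : M2 K) * P * (B : M2 K)) 0 1 with hb
  by_cases hne : c = P.trace - c
  · -- equal eigenvalues
    by_cases hb0 : b = 0
    · exact ⟨B, c, P.trace - c, by rw [hB, hb0]⟩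
    exfalso
    rw [← hne] at hB
    have hc0 : c ≠ 0 := by
      rintro rfl
      apply hdet
      have h1 := congrArg Matrix.det hB
      rw [Matrix.det_mul, Matrix.det_mul, Matrix.SpecialLinearGroup.det_coe, Matrix.SpecialLinearGroup.det_coe,
        Matrix.det_fin_two_of, one_mul, mul_one] at h1
      rw [h1]
      ring
    have h1 : ∀ n : ℕ, (((B⁻¹ : SL2 K) : M2 K) * P * (B : M2 K)) ^ n = ((B⁻¹ : SL2 K) : M2 K) * P ^ n * (B : M2 K) := by
      intro n
      induction n with
      | zero => rw [pow_zero, pow_zero, mul_one, coe_mul_inv]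
      | succ n ih =>
        rw [pow_succ, ih, pow_succ]
        calc ((B⁻¹ : SL2 K) : M2 K) * P ^ n * (B : M2 K) * (((B⁻¹ : SL2 K) : M2 K) * P * (B : M2 K)) =
            ((B⁻¹ : SL2 K) : M2 K) * P ^ n * ((B : M2 K) * ((B⁻¹ : SL2 K) : M2 K)) * P * (B : M2 K) := by
              simp only [mul_assoc]
          _ = _ := by rw [coe_inv_mul, mul_one]; simp only [mul_assoc]
    have h2 := h1 (Fintype.card K)
    rw [hl, mul_smul_comm, smul_mul_assoc, hB] at h2
    obtain ⟨m, hm⟩ : ∃ m, Fintype.card K = m + 1 := Nat.exists_eq_succ_of_ne_zero Fintype.card_ne_zero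
    have hcast : ((m : K) + 1) = 0 := by
      have := FiniteField.cast_card_eq_zero K
      rw [hm] at this
      exact_mod_cast this
    rw [hm, upper_pow, hcast, zero_mul, zero_mul] at h2
    have h3 := congrFun (congrFun h2 0) 0
    have h4 := congrFun (congrFun h2 0) 1
    simp at h3 h4
    rcases h4 with h4 | h4
    · rw [h4, zero_mul] at h3
      exact hc0 (pow_eq_zero_iff (n := m + 1) (by omega) |>.1 h3)
    · exact hb0 h4
  · -- distinct eigenvalues
    have hne' : P.trace - c - c ≠ 0 := fun h => hne (by rw [sub_eq_zero] at h; exact h.symm)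
    set t := b * (P.trace - c - c)⁻¹ with ht
    obtain ⟨U, hU⟩ := exists_cols (K := K) (a := 1) (b := t) (c := 0) (d := 1) (by ring)
    have hUi : ((U⁻¹ : SL2 K) : M2 K) = !![1, -t; 0, 1] := by
      rw [Matrix.SpecialLinearGroup.coe_inv, Matrix.adjugate_fin_two, hU]
      simp
    refine ⟨B * U, c, P.trace - c, ?_⟩
    have e : (((B * U)⁻¹ : SL2 K) : M2 K) * P * ((B * U : SL2 K) : M2 K) =
        ((U⁻¹ : SL2 K) : M2 K) * (((B⁻¹ : SL2 K) : M2 K) * P * (B : M2 K)) * (U : M2 K) := by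
      rw [_root_.mul_inv_rev]
      change ((U⁻¹ : SL2 K) : M2 K) * ((B⁻¹ : SL2 K) : M2 K) * P * ((B : M2 K) * (U : M2 K)) = _
      simp only [mul_assoc]
    rw [e, hB, hU, hUi]
    have h3 : t * (P.trace - c - c) = b := by rw [ht, inv_mul_cancel_right₀ hne']
    ext i j
    fin_cases i <;> fin_cases j <;> simp [Matrix.mul_apply, Fin.sum_univ_two]
    linear_combination -h3

theorem anti_calc {a b c x y k : K} (hk : k = x * (c * x + -a * y) - y * (a * x + b * y)) (hk0 : k ≠ 0) :
    !![k⁻¹ * (c * x + -a * y), -(k⁻¹ * (a * x + b * y)); -y, x] * !![a, b; c, -a] *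
      !![x, k⁻¹ * (a * x + b * y); y, k⁻¹ * (c * x + -a * y)] = !![0, k⁻¹ * (a * a + b * c); k, 0] := by
  have hkk : k⁻¹ * k = 1 := inv_mul_cancel₀ hk0
  rw [Matrix.mul_fin_two, Matrix.mul_fin_two]
  have e1 : (k⁻¹ * (c * x + -a * y) * a + -(k⁻¹ * (a * x + b * y)) * c) * x +
      (k⁻¹ * (c * x + -a * y) * b + -(k⁻¹ * (a * x + b * y)) * -a) * y = 0 := by ring
  have e2 : (k⁻¹ * (c * x + -a * y) * a + -(k⁻¹ * (a * x + b * y)) * c) * (k⁻¹ * (a * x + b * y)) +
      (k⁻¹ * (c * x + -a * y) * b + -(k⁻¹ * (a * x + b * y)) * -a) * (k⁻¹ * (c * x + -a * y)) =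
        k⁻¹ * (a * a + b * c) := by
    have : (k⁻¹ * (c * x + -a * y) * a + -(k⁻¹ * (a * x + b * y)) * c) * (k⁻¹ * (a * x + b * y)) +
      (k⁻¹ * (c * x + -a * y) * b + -(k⁻¹ * (a * x + b * y)) * -a) * (k⁻¹ * (c * x + -a * y)) =
        k⁻¹ * (a * a + b * c) * (k⁻¹ * (x * (c * x + -a * y) - y * (a * x + b * y))) := by ring
    rw [this, ← hk, hkk, mul_one]
  have e3 : (-y * a + x * c) * x + (-y * b + x * -a) * y = k := by rw [hk]; ring
  have e4 : (-y * a + x * c) * (k⁻¹ * (a * x + b * y)) + (-y * b + x * -a) * (k⁻¹ * (c * x + -a * y)) = 0 := by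
    ring
  rw [e1, e2, e3, e4]

/-- A non-scalar `P` with `P ^ 2` scalar is `SL₂(K)`-conjugate to an antidiagonal matrix. -/
theorem exists_conj_anti {P : M2 K} (hs : ∀ c : K, P ≠ c • (1 : M2 K)) {l : K} (hl : P * P = l • (1 : M2 K)) :
    ∃ (B : SL2 K) (a d : K), ((B⁻¹ : SL2 K) : M2 K) * P * (B : M2 K) = !![0, a; d, 0] := by
  -- the trace is zero
  have htr : P.trace = 0 := by
    have h1 : P.trace • P = (l + P.det) • (1 : M2 K) := by
      have := sq P
      rw [hl] at this
      linear_combination (norm := module) -this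
    exact (indep hs h1).1
  rw [Matrix.trace_fin_two] at htr
  clear hl
  have hPe := Matrix.eta_fin_two P
  -- a cyclic vector
  have key : ∀ x y : K, x * (P 1 0 * x + P 1 1 * y) - y * (P 0 0 * x + P 0 1 * y) ≠ 0 →
      ∃ (B : SL2 K) (a d : K), ((B⁻¹ : SL2 K) : M2 K) * P * (B : M2 K) = !![0, a; d, 0] := by
    intro x y hxy
    set k := x * (P 1 0 * x + P 1 1 * y) - y * (P 0 0 * x + P 0 1 * y) with hk
    obtain ⟨B, hB⟩ := exists_cols (K := K) (a := x) (b := k⁻¹ * (P 0 0 * x + P 0 1 * y)) (c := y)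
      (d := k⁻¹ * (P 1 0 * x + P 1 1 * y)) (by
        have : x * (k⁻¹ * (P 1 0 * x + P 1 1 * y)) - k⁻¹ * (P 0 0 * x + P 0 1 * y) * y = k⁻¹ * k := by
          rw [hk]; ring
        rw [this, inv_mul_cancel₀ hxy])
    have hBi : ((B⁻¹ : SL2 K) : M2 K) = !![k⁻¹ * (P 1 0 * x + P 1 1 * y), -(k⁻¹ * (P 0 0 * x + P 0 1 * y)); -y, x] := by
      rw [Matrix.SpecialLinearGroup.coe_inv, Matrix.adjugate_fin_two, hB]
      simp
    have h3 : P 1 1 = -P 0 0 := by linear_combination htr
    refine ⟨B, k⁻¹ * (P 0 0 * P 0 0 + P 0 1 * P 1 0), k, ?_⟩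
    rw [hBi, hB]
    rw [h3] at hPe hk ⊢
    rw [hPe]
    exact anti_calc hk hxy
  by_cases h10 : P 1 0 = 0
  · by_cases h01 : P 0 1 = 0
    · refine key 1 1 ?_
      intro h3
      apply hs (P 0 0)
      ext i j
      fin_cases i <;> fin_cases j <;> simp [h01, h10]
      linear_combination h3 - h10 + h01
    · refine key 0 1 ?_
      intro h3
      apply h01
      linear_combination -h3
  · refine key 1 0 ?_
    intro h3
    apply h10
    linear_combination h3

end Cfsg.Agent.H175.OT.Mat2
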