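import Cfsg.Agent.H175.OT.SubA
import Cfsg.Agent.H412.OT.MixTor
import Cfsg.Agent.H460.OT.ShortC
import Cfsg.Agent.H501.OT.Long
import Cfsg.Agent.H28.OT.NoBad

/-!
# S2539, part 5, mixed case: the group `V = X_c X_d` (helper175)

* `pr_comb`, `comm_mem'` : commutators of root elements;
* `Tri D a c d` : short roots `a, d, c = a + d` of `F₄`; `VV c d = X_c ⊔ X_d` : abelian, `D_a` and `T` normalise it;
* `Mx` : the context of the mixed case; `perm_a`, `perm_c`, `perm_d`; `MF_le_normalizer_V`, `mem_MF'`;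
* `z = h_a(-1)`: `z_inv`, `z_DS`, `z_norm`, `V_disj`.
-/

set_option autoImplicit false
set_option linter.unusedSectionVars false

namespace Cfsg.Agent.H175.OT.Mix

open Subgroup
open Cfsg Cfsg.Lie Cfsg.Lie.ChevalleyDatum
open Cfsg.Agent.ChevalleyStructure Cfsg.Agent.ChevalleyStructure.Elts Cfsg.Agent.ChevalleyStructure.NPerm
open Cfsg.Agent.H412.OT Cfsg.Agent.H175.OT
open Cfsg.Agent.ChevalleyStructure.RootVec (rt)

universe u

section Comm

variable {D : ChevalleyDatum} {K : Type u} [Field K]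

/-- the pairing is linear -/
theorem pr_comb (hD : InList D) {k r s i j : ℕ} (hk : k < D.nroots) (hr : r < D.nroots) (hs : s < D.nroots)
    (h : ∀ a, rt D k a = (i : ℤ) * rt D r a + (j : ℤ) * rt D s a) {t : ℕ} (ht : t < D.nroots) :
    pr D t k = i * pr D t r + j * pr D t s := by
  obtain ⟨l, M, hp⟩ := H3.OT.exists_isType hD
  have hW : Finite M.Group := Nodes.RGDChev.finite_W hp M.toCoxeterSystem
  have hx := Nodes.RGDChev.isRoot_vec hp M.toCoxeterSystem ht
  have e : Nodes.RGDChev.vec D l k = (i : ℤ) • Nodes.RGDChev.vec D l r + (j : ℤ) • Nodes.RGDChev.vec D l s := by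
    funext a
    rw [Pi.add_apply, Pi.smul_apply, Pi.smul_apply, Nodes.RGDChev.vec_apply, Nodes.RGDChev.vec_apply,
      Nodes.RGDChev.vec_apply, h, smul_eq_mul, smul_eq_mul]
  rw [← H3.OT.cpr_vec' hp M.toCoxeterSystem ht hk, ← H3.OT.cpr_vec' hp M.toCoxeterSystem ht hr,
    ← H3.OT.cpr_vec' hp M.toCoxeterSystem ht hs, e, Nodes.Coroot.cpr_add M.toCoxeterSystem hp.isCartan _ _ hx,
    Nodes.Coroot.cpr_smul M.toCoxeterSystem hp.isCartan _ _ hx, Nodes.Coroot.cpr_smul M.toCoxeterSystem hp.isCartan _ _ hx]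

/-- the commutator formula -/
theorem comm_mem' (hD : InList D) {r s : ℕ} (hr : r < D.nroots) (hs : s < D.nroots) (hrs : s ≠ r)
    (hneg : s ≠ D.neg r) {V : Subgroup (GL D.Idx K)}
    (hV : ∀ k < D.nroots, ∀ i j : ℕ, 1 ≤ i → 1 ≤ j → (∀ a, rt D k a = (i : ℤ) * rt D r a + (j : ℤ) * rt D s a) →
      D.rootSubgroup K k ≤ V) (t u : K) :
    xG hD s u * xG hD r t * (xG hD s u)⁻¹ * (xG hD r t)⁻¹ ∈ V := by
  obtain ⟨l, M, hp⟩ := H3.OT.exists_isType hD
  have h1 := Nodes.RGDChev.comm_xG hp (K := K) hr hs hrs hneg (-t) (-u)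
  rw [commutatorElement_def, inv_inv, inv_inv] at h1
  have e1 : (xG hp.inList s (-u))⁻¹ = xG hD s u := by rw [xG_inv, neg_neg]
  have e2 : (xG hp.inList r (-t))⁻¹ = xG hD r t := by rw [xG_inv, neg_neg]
  have e3 : (xG hD s u)⁻¹ = xG hp.inList s (-u) := xG_inv _ _ _
  have e4 : (xG hD r t)⁻¹ = xG hp.inList r (-t) := xG_inv _ _ _
  rw [e3, e4, ← e1, ← e2, h1]
  refine Nodes.RGDChev.wordG_mem hp _ _ ?_
  intro c hc
  obtain ⟨⟨k, C, i, j⟩, hc', rfl⟩ := List.mem_map.1 hc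
  obtain ⟨h2, -, -, h3, h4, h5⟩ := RootVec.commTerms_rt (RootVecTab.checked_of_mem hD) hc'
  exact hV k h2 i j h3 h4 h5 (xG_mem_rootSubgroup hp.inList k _)

end Comm

/-- short roots `a, d, c = a + d` -/
structure Tri (D : ChevalleyDatum) (a c d : ℕ) : Prop where
  win : ∀ r < D.nroots, ∀ s < D.nroots, |pr D r s| ≤ 2
  ha : a < D.nroots
  hc : c < D.nroots
  hd : d < D.nroots
  rt : ∀ i, rt D c i = rt D a i + rt D d i
  ac : pr D a c = 1
  ca : pr D c a = 1
  ad : pr D a d = -1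
  da : pr D d a = -1
  cd : pr D c d = 1
  dc : pr D d c = 1

section TriF

variable {D : ChevalleyDatum} {a c d : ℕ}

theorem rt_neg (hD : InList D) {r : ℕ} (hr : r < D.nroots) (i : ℕ) : rt D (D.neg r) i = -rt D r i :=
  RootVec.rt_neg (RootVecTab.checked_of_mem hD) hr i

theorem Tri.symm (hD : InList D) (h : Tri D a c d) : Tri D (D.neg a) d c where
  win := h.win
  ha := NPerm.neg_lt hD h.ha
  hc := h.hd
  hd := h.hc
  rt := fun i => by rw [rt_neg hD h.ha, h.rt]; ring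
  ac := by rw [H460.OT.Short.pr_neg_left hD h.ha, h.ad, neg_neg]
  ca := by rw [H460.OT.Short.pr_neg_right hD h.ha, h.da, neg_neg]
  ad := by rw [H460.OT.Short.pr_neg_left hD h.ha, h.ac]
  da := by rw [H460.OT.Short.pr_neg_right hD h.ha, h.ca]
  cd := h.dc
  dc := h.cd

theorem Tri.c_ne_a (hD : InList D) (h : Tri D a c d) : c ≠ a := by
  rintro rfl
  have := h.ac
  rw [H428.OT.pr_self hD h.ha] at this
  norm_num at this

theorem Tri.c_ne_neg (hD : InList D) (h : Tri D a c d) : c ≠ D.neg a := by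
  rintro rfl
  have := h.ac
  rw [H428.OT.pr_neg hD h.ha] at this
  norm_num at this

theorem Tri.d_ne_a (hD : InList D) (h : Tri D a c d) : d ≠ a := by
  rintro rfl
  have := h.ad
  rw [H428.OT.pr_self hD h.ha] at this
  norm_num at this

theorem Tri.d_ne_neg (hD : InList D) (h : Tri D a c d) : d ≠ D.neg a := by
  rintro rfl
  have := h.ad
  rw [H428.OT.pr_neg hD h.ha] at this
  norm_num at this

theorem Tri.d_ne_c (hD : InList D) (h : Tri D a c d) : d ≠ c := by
  rintro rfl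
  have := h.cd
  rw [H428.OT.pr_self hD h.hc] at this
  norm_num at this

theorem Tri.d_ne_negc (hD : InList D) (h : Tri D a c d) : d ≠ D.neg c := by
  rintro rfl
  have := h.cd
  rw [H428.OT.pr_neg hD h.hc] at this
  norm_num at this

variable {K : Type u} [Field K]

/-- `V = X_c X_d` -/
def VV (D : ChevalleyDatum) (K : Type u) [Field K] (c d : ℕ) : Subgroup (GL D.Idx K) :=
  D.rootSubgroup K c ⊔ D.rootSubgroup K d

theorem VV_comm (c d : ℕ) : VV D K c d = VV D K d c := sup_comm _ _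

theorem Tri.comm_cd (hD : InList D) (h : Tri D a c d) (t u : K) : xG hD d u * xG hD c t = xG hD c t * xG hD d u := by
  have h1 := comm_mem' hD h.hc h.hd (h.d_ne_c hD) (h.d_ne_negc hD) (V := (⊥ : Subgroup (GL D.Idx K))) (by
    intro k hk i j hi hj e
    exfalso
    have h2 := pr_comb hD hk h.hc h.hd e h.hc
    rw [H428.OT.pr_self hD h.hc, h.cd] at h2
    have h3 := abs_le.1 (h.win c h.hc k hk)
    have hi' : (1 : ℤ) ≤ i := by exact_mod_cast hi
    have hj' : (1 : ℤ) ≤ j := by exact_mod_cast hj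
    linarith [h3.2]) t u
  rw [mem_bot, mul_inv_eq_one, mul_inv_eq_iff_eq_mul] at h1
  exact h1

theorem Tri.comm_ac (hD : InList D) (h : Tri D a c d) (t u : K) : xG hD c u * xG hD a t = xG hD a t * xG hD c u := by
  have h1 := comm_mem' hD h.ha h.hc (h.c_ne_a hD) (h.c_ne_neg hD) (V := (⊥ : Subgroup (GL D.Idx K))) (by
    intro k hk i j hi hj e
    exfalso
    have h2 := pr_comb hD hk h.ha h.hc e h.ha
    rw [H428.OT.pr_self hD h.ha, h.ac] at h2
    have h3 := abs_le.1 (h.win a h.ha k hk)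
    have hi' : (1 : ℤ) ≤ i := by exact_mod_cast hi
    have hj' : (1 : ℤ) ≤ j := by exact_mod_cast hj
    linarith [h3.2]) t u
  rw [mem_bot, mul_inv_eq_one, mul_inv_eq_iff_eq_mul] at h1
  exact h1

theorem Tri.comm_ad (hD : InList D) (h : Tri D a c d) (t u : K) :
    xG hD d u * xG hD a t * (xG hD d u)⁻¹ * (xG hD a t)⁻¹ ∈ D.rootSubgroup K c := by
  refine comm_mem' hD h.ha h.hd (h.d_ne_a hD) (h.d_ne_neg hD) (fun k hk i j hi hj e => ?_) t u
  have h2 := pr_comb hD hk h.ha h.hd e h.hc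
  rw [h.ca, h.cd] at h2
  have h3 := abs_le.1 (h.win c h.hc k hk)
  have hi' : (1 : ℤ) ≤ i := by exact_mod_cast hi
  have hj' : (1 : ℤ) ≤ j := by exact_mod_cast hj
  have hi1 : (i : ℤ) = 1 := by linarith [h3.2]
  have hj1 : (j : ℤ) = 1 := by linarith [h3.2]
  have hkc : k = c := RootVec.rt_inj (RootVecTab.checked_of_mem hD) hk h.hc fun x _ => by
    rw [e, h.rt, hi1, hj1]; ring
  rw [hkc]

/-- `V` is abelian -/
theorem Tri.V_comm (hD : InList D) (h : Tri D a c d) : ∀ x ∈ VV D K c d, ∀ y ∈ VV D K c d, x * y = y * x := by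
  have hself : ∀ r, D.rootSubgroup K r ≤ centralizer (D.rootSubgroup K r : Set (GL D.Idx K)) := by
    intro r x hx
    rw [mem_centralizer_iff]
    intro y hy
    obtain ⟨t, rfl⟩ := (mem_rootSubgroup_iff hD _ _).1 hx
    obtain ⟨u, rfl⟩ := (mem_rootSubgroup_iff hD _ _).1 hy
    rw [xG_add, xG_add, add_comm]
  have hcd : D.rootSubgroup K c ≤ centralizer (D.rootSubgroup K d : Set (GL D.Idx K)) := by
    intro x hx
    rw [mem_centralizer_iff]
    intro y hy
    obtain ⟨t, rfl⟩ := (mem_rootSubgroup_iff hD _ _).1 hx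
    obtain ⟨u, rfl⟩ := (mem_rootSubgroup_iff hD _ _).1 hy
    exact h.comm_cd hD t u
  have key : VV D K c d ≤ centralizer (VV D K c d : Set (GL D.Idx K)) := by
    refine sup_le ?_ ?_
    · rw [le_centralizer_iff]
      exact sup_le (hself c) (le_centralizer_iff.1 hcd)
    · rw [le_centralizer_iff]
      exact sup_le hcd (hself d)
  intro x hx y hy
  exact (mem_centralizer_iff.1 (key hy) x hx)

/-- a subgroup normalised by generators -/
theorem le_normalizer_of {G : Type*} [Group G] {V X : Subgroup G} (h : ∀ x ∈ X, ∀ v ∈ V, x * v * x⁻¹ ∈ V) :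
    X ≤ normalizer (V : Set G) := by
  intro x hx
  rw [mem_normalizer_iff]
  intro v
  refine ⟨h x hx v, fun hv => ?_⟩
  have h1 := h x⁻¹ (inv_mem hx) _ hv
  have e : x⁻¹ * (x * v * x⁻¹) * x⁻¹⁻¹ = v := by group
  rwa [e] at h1

theorem norm_sup {G : Type*} [Group G] {A B : Subgroup G} {x : G} (hA : ∀ v ∈ A, x * v * x⁻¹ ∈ A ⊔ B)
    (hB : ∀ v ∈ B, x * v * x⁻¹ ∈ A ⊔ B) : ∀ v ∈ A ⊔ B, x * v * x⁻¹ ∈ A ⊔ B := by
  intro v hv
  have h1 : A ⊔ B ≤ (A ⊔ B).comap (MulAut.conj x).toMonoidHom := sup_le (fun v hv => hA v hv) (fun v hv => hB v hv)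
  exact h1 hv

theorem Tri.root_le_norm (hD : InList D) (h : Tri D a c d) :
    D.rootSubgroup K a ≤ normalizer (VV D K c d : Set (GL D.Idx K)) := by
  refine le_normalizer_of fun x hx => norm_sup ?_ ?_
  · intro v hv
    obtain ⟨t, rfl⟩ := (mem_rootSubgroup_iff hD _ _).1 hx
    obtain ⟨u, rfl⟩ := (mem_rootSubgroup_iff hD _ _).1 hv
    rw [← h.comm_ac hD t u, mul_inv_cancel_right]
    exact mem_sup_left hv
  · intro v hv
    obtain ⟨t, rfl⟩ := (mem_rootSubgroup_iff hD _ _).1 hx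
    obtain ⟨u, rfl⟩ := (mem_rootSubgroup_iff hD _ _).1 hv
    have h1 := h.comm_ad hD t u
    have e : xG hD a t * xG hD d u * (xG hD a t)⁻¹ =
        (xG hD d u * xG hD a t * (xG hD d u)⁻¹ * (xG hD a t)⁻¹)⁻¹ * xG hD d u := by group
    rw [e]
    exact mul_mem (mem_sup_left (inv_mem h1)) (mem_sup_right hv)

theorem Tri.DS_le_norm (hD : InList D) (h : Tri D a c d) : DS D K a ≤ normalizer (VV D K c d : Set (GL D.Idx K)) := by
  refine sup_le (h.root_le_norm hD) ?_
  rw [VV_comm]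
  exact (h.symm hD).root_le_norm hD

theorem tor_le_norm_VV (hD : InList D) {c d : ℕ} (hc : c < D.nroots) (hd : d < D.nroots) :
    D.diagonalSubgroup K ≤ normalizer (VV D K c d : Set (GL D.Idx K)) := by
  refine le_normalizer_of fun x hx => norm_sup ?_ ?_
  · intro v hv
    exact mem_sup_left (tor_conj_root hD hx hc hv)
  · intro v hv
    exact mem_sup_right (tor_conj_root hD hx hd hv)

/-- elements of `V` -/
theorem Tri.mem_VV (hD : InList D) (h : Tri D a c d) {v : GL D.Idx K} :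
    v ∈ VV D K c d ↔ ∃ t u : K, v = xG hD c t * xG hD d u := by
  constructor
  · intro hv
    have hn : D.rootSubgroup K d ≤ normalizer (D.rootSubgroup K c : Set (GL D.Idx K)) := by
      refine le_normalizer_of fun x hx v hv => ?_
      obtain ⟨t, rfl⟩ := (mem_rootSubgroup_iff hD _ _).1 hx
      obtain ⟨u, rfl⟩ := (mem_rootSubgroup_iff hD _ _).1 hv
      rw [h.comm_cd hD, mul_inv_cancel_right]
      exact hv
    have h1 : v ∈ ((D.rootSubgroup K c ⊔ D.rootSubgroup K d : Subgroup (GL D.Idx K)) : Set (GL D.Idx K)) := hv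
    rw [coe_mul_of_right_le_normalizer_left _ _ hn, Set.mem_mul] at h1
    obtain ⟨x, hx, y, hy, e⟩ := h1
    obtain ⟨t, rfl⟩ := (mem_rootSubgroup_iff hD _ _).1 hx
    obtain ⟨u, rfl⟩ := (mem_rootSubgroup_iff hD _ _).1 hy
    exact ⟨t, u, e.symm⟩
  · rintro ⟨t, u, rfl⟩
    exact mul_mem (mem_sup_left (xG_mem_rootSubgroup hD c t)) (mem_sup_right (xG_mem_rootSubgroup hD d u))

theorem Tri.isPGroup_VV (hD : InList D) (h : Tri D a c d) (p : ℕ) [CharP K p] : IsPGroup p ↥(VV D K c d) := by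
  rintro ⟨v, hv⟩
  obtain ⟨t, u, rfl⟩ := (h.mem_VV hD).1 hv
  refine ⟨1, Subtype.ext ?_⟩
  have key : ∀ (r : ℕ) (a : K) (k : ℕ), (xG hD r a : GL D.Idx K) ^ k = xG hD r (k • a) := by
    intro r a k
    induction k with
    | zero => rw [pow_zero, zero_smul, xG_zero]
    | succ k ih => rw [pow_succ, ih, xG_add, succ_nsmul]
  have hc : Commute (xG hD c t : GL D.Idx K) (xG hD d u) := (h.comm_cd hD t u).symm
  rw [SubgroupClass.coe_pow]
  change (xG hD c t * xG hD d u : GL D.Idx K) ^ p ^ 1 = 1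
  rw [pow_one, hc.mul_pow, key, key, nsmul_eq_mul, nsmul_eq_mul, CharP.cast_eq_zero, zero_mul, zero_mul, xG_zero,
    xG_zero, mul_one]

end TriF

end Cfsg.Agent.H175.OT.Mix
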