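import Cfsg.Agent.H175.OT.MixA
import Cfsg.Agent.H274.OT.CYTab
import Cfsg.Agent.H412.OT.Ind
import Cfsg.Agent.H3.OT.Refl

/-!
# S2539, part 5, mixed case: the context (helper175)

* `W hD n r` : the action of `n ∈ N` on the indices of the roots;
* `Mx` : the context of the mixed case; `W_a`, `W_c`, `W_d`; `MF_le_normalizer_V`, `mem_MF'`;
* `z = h_a(-1)`: `z_inv`, `z_DS`, `z_norm`, `V_disj`.
-/

set_option autoImplicit false
set_option linter.unusedSectionVars false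

namespace Cfsg.Agent.H175.OT.Mix

open Subgroup
open Cfsg Cfsg.Lie Cfsg.Lie.ChevalleyDatum
open Cfsg.Agent.ChevalleyStructure Cfsg.Agent.ChevalleyStructure.Elts Cfsg.Agent.ChevalleyStructure.NPerm
open Cfsg.Agent.H412.OT Cfsg.Agent.H175.OT
open Cfsg.Agent.ChevalleyStructure.RootVec (rt)

universe u

section W

variable {D : ChevalleyDatum} {K : Type u} [Field K] (hD : InList D) (n : ↥(D.monomialSubgroup K))

/-- the action of `n ∈ N` on the indices of the roots -/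
noncomputable def W (r : ℕ) : ℕ := if hr : r < D.nroots then (permHom hD K n ⟨r, hr⟩ : Fin D.nroots).1 else r

theorem W_of {r : ℕ} (hr : r < D.nroots) : W hD n r = (permHom hD K n ⟨r, hr⟩ : Fin D.nroots).1 := dif_pos hr

theorem W_lt {r : ℕ} (hr : r < D.nroots) : W hD n r < D.nroots := by
  rw [W_of hD n hr]
  exact Fin.is_lt _

theorem W_pr {r s : ℕ} (hr : r < D.nroots) (hs : s < D.nroots) : pr D (W hD n r) (W hD n s) = pr D r s := by
  rw [W_of hD n hr, W_of hD n hs]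
  exact H3.OT.pr_perm hD n _ _

theorem W_neg {r : ℕ} (hr : r < D.nroots) : W hD n (D.neg r) = D.neg (W hD n r) := by
  obtain ⟨l, M, hp⟩ := H3.OT.exists_isType hD
  rw [W_of hD n hr, W_of hD n (NPerm.neg_lt hD hr)]
  exact H501.OT.perm_neg hp n ⟨r, hr⟩

theorem W_mul (m : ↥(D.monomialSubgroup K)) {r : ℕ} (hr : r < D.nroots) : W hD (m * n) r = W hD m (W hD n r) := by
  rw [W_of hD _ hr, W_of hD n hr, W_of hD m (Fin.is_lt _), map_mul]
  rfl

theorem W_one {r : ℕ} : W hD (1 : ↥(D.monomialSubgroup K)) r = r := by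
  by_cases hr : r < D.nroots
  · rw [W_of hD _ hr, map_one]
    rfl
  · exact dif_neg hr

theorem W_inv_W {r : ℕ} (hr : r < D.nroots) : W hD n⁻¹ (W hD n r) = r := by
  rw [← W_mul hD n n⁻¹ hr, inv_mul_cancel, W_one]

theorem W_W_inv {r : ℕ} (hr : r < D.nroots) : W hD n (W hD n⁻¹ r) = r := by
  rw [← W_mul hD n⁻¹ n hr, mul_inv_cancel, W_one]

theorem W_conj {r : ℕ} (hr : r < D.nroots) :
    (D.rootSubgroup K r).map (MulAut.conj (n : GL D.Idx K)).toMonoidHom = D.rootSubgroup K (W hD n r) := by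
  rw [W_of hD n hr]
  exact conj_permHom hD n ⟨r, hr⟩

theorem W_conj_mem {r : ℕ} (hr : r < D.nroots) {x : GL D.Idx K} (hx : x ∈ D.rootSubgroup K r) :
    (n : GL D.Idx K) * x * (n : GL D.Idx K)⁻¹ ∈ D.rootSubgroup K (W hD n r) := by
  rw [← W_conj hD n hr]
  exact ⟨x, hx, rfl⟩

theorem W_chi {t : GL D.Idx K} (ht : t ∈ D.diagonalSubgroup K) {s : ℕ} (hs : s < D.nroots) :
    chi D K ((n : GL D.Idx K) * t * (n : GL D.Idx K)⁻¹) (W hD n s) = chi D K t s := by
  rw [W_of hD n hs]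
  exact H3.OT.chi_perm hD n ht ⟨s, hs⟩

/-- elements of `T` are equal if they have the same values at the images -/
theorem eq_of_chi_W [Fintype K] {t t' : GL D.Idx K} (ht : t ∈ D.diagonalSubgroup K) (ht' : t' ∈ D.diagonalSubgroup K)
    (h : ∀ s < D.nroots, chi D K t (W hD n s) = chi D K t' (W hD n s)) : t = t' := by
  refine H893.OT.eq_of_chi hD ht ht' fun s hs => ?_
  have h1 := h (W hD n⁻¹ s) (W_lt hD _ hs)
  rwa [W_W_inv hD n hs] at h1

theorem W_comm_hG [Fintype K] {g : ℕ} (hg : g < D.nroots) (h : W hD n g = g) {c : K} (hc : c ≠ 0) :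
    (n : GL D.Idx K) * hG hD g c = hG hD g c * (n : GL D.Idx K) := by
  refine H28.OT.comm_of_fix hD n ⟨g, hg⟩ (Fin.ext ?_) hc
  rw [W_of hD n hg] at h
  exact h

theorem W_mem_SF {F : Subgroup (GL D.Idx K)} (hn : (n : GL D.Idx K) ∈ F) {r : ℕ} (hr : r ∈ SF D K F) :
    W hD n r ∈ SF D K F := by
  refine ⟨W_lt hD n hr.1, ?_⟩
  rw [← W_conj hD n hr.1]
  rintro _ ⟨x, hx, rfl⟩
  exact mul_mem (mul_mem hn (hr.2 hx)) (inv_mem hn)

/-- `n ∈ T` if `W n = 1` -/
theorem mem_tor_of_W [Finite K] (h : ∀ r < D.nroots, W hD n r = r) : (n : GL D.Idx K) ∈ D.diagonalSubgroup K := by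
  refine H3.OT.mem_tor_of_perm hD (n := n) ?_
  apply Equiv.ext
  intro r
  apply Fin.ext
  have h1 := h r r.2
  rw [W_of hD n r.2] at h1
  exact h1

end W

/-- the context of the mixed case -/
structure Mx (D : ChevalleyDatum) (K : Type u) [Field K] [Fintype K] (p : ℕ) (F : Subgroup (GL D.Idx K))
    (a c d : ℕ) : Prop where
  hy : Hyp K p D
  D4 : D = chevF4
  mb : MinBad D K F
  tri : Tri D a c d
  S : SF D K F = {a, D.neg a, c, d}
  nc : D.neg c ∉ SF D K F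
  nd : D.neg d ∉ SF D K F
  sa : ¬ IsLong D a
  sc : ¬ IsLong D c

section

variable {D : ChevalleyDatum} {K : Type u} [Field K] [Fintype K] {p : ℕ} {F : Subgroup (GL D.Idx K)}
  {a c d : ℕ}

theorem Mx.hD (h : Mx D K p F a c d) : InList D := h.hy.inList

theorem Mx.q (h : Mx D K p F a c d) : 13 ≤ Fintype.card K := h.hy.card

theorem Mx.aS (h : Mx D K p F a c d) : a ∈ SF D K F := by rw [h.S]; simp
theorem Mx.naS (h : Mx D K p F a c d) : D.neg a ∈ SF D K F := by rw [h.S]; simp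
theorem Mx.cS (h : Mx D K p F a c d) : c ∈ SF D K F := by rw [h.S]; simp
theorem Mx.dS (h : Mx D K p F a c d) : d ∈ SF D K F := by rw [h.S]; simp

theorem Mx.mem_S (h : Mx D K p F a c d) {r : ℕ} (hr : r ∈ SF D K F) : r = a ∨ r = D.neg a ∨ r = c ∨ r = d := by
  rw [h.S] at hr
  simpa using hr

section WF

variable (h : Mx D K p F a c d) {n : ↥(D.monomialSubgroup K)} (hn : (n : GL D.Idx K) ∈ F)

include hn

theorem Mx.W_neg_iff {r : ℕ} (hr : r < D.nroots) : D.neg (W h.hD n r) ∈ SF D K F ↔ D.neg r ∈ SF D K F := by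
  have hD := h.hD
  rw [← W_neg hD n hr]
  constructor
  · intro h1
    have h2 := W_mem_SF hD n⁻¹ (F := F) (by rw [Subgroup.coe_inv]; exact inv_mem hn) h1
    rwa [W_inv_W hD n (NPerm.neg_lt hD hr)] at h2
  · exact W_mem_SF hD n hn

theorem Mx.W_a : W h.hD n a = a ∨ W h.hD n a = D.neg a := by
  have h1 := W_mem_SF h.hD n hn h.aS
  have h2 : D.neg (W h.hD n a) ∈ SF D K F := (h.W_neg_iff hn h.aS.1).2 h.naS
  rcases h.mem_S h1 with h3 | h3 | h3 | h3
  · exact Or.inl h3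
  · exact Or.inr h3
  · rw [h3] at h2; exact absurd h2 h.nc
  · rw [h3] at h2; exact absurd h2 h.nd

theorem Mx.W_cd {r : ℕ} (hr : r ∈ SF D K F) (hnr : D.neg r ∉ SF D K F) : W h.hD n r = c ∨ W h.hD n r = d := by
  have hD := h.hD
  have h1 := W_mem_SF h.hD n hn hr
  have h2 : D.neg (W h.hD n r) ∉ SF D K F := fun h3 => hnr ((h.W_neg_iff hn hr.1).1 h3)
  rcases h.mem_S h1 with h3 | h3 | h3 | h3
  · rw [h3] at h2; exact absurd h.naS h2
  · rw [h3, H428.OT.neg_neg' hD h.tri.ha] at h2; exact absurd h.aS h2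
  · exact Or.inl h3
  · exact Or.inr h3

theorem Mx.W_c : W h.hD n c = c ∨ W h.hD n c = d := h.W_cd hn h.cS h.nc

theorem Mx.W_d : W h.hD n d = c ∨ W h.hD n d = d := h.W_cd hn h.dS h.nd

end WF

/-- elements of `N_F(T)` are monomial -/
theorem Mx.mono (h : Mx D K p F a c d) {x : GL D.Idx K} (hx : x ∈ F)
    (hN : x ∈ normalizer (D.diagonalSubgroup K : Set (GL D.Idx K))) : ∃ n : ↥(D.monomialSubgroup K), (n : GL D.Idx K) = x := by
  have h1 := h.q
  exact ⟨⟨x, H3.OT.mem_monomial_of_norm h.hD (by rw [Nat.card_eq_fintype_card]; omega) (h.mb.le hx) hN⟩, rfl⟩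

theorem Mx.norm_V (h : Mx D K p F a c d) : F ⊓ normalizer (D.diagonalSubgroup K : Set (GL D.Idx K)) ≤
    normalizer (VV D K c d : Set (GL D.Idx K)) := by
  refine le_normalizer_of fun x hx => ?_
  obtain ⟨n, rfl⟩ := h.mono hx.1 hx.2
  refine norm_sup (fun v hv => ?_) fun v hv => ?_
  · have h1 := W_conj_mem h.hD n h.cS.1 hv
    rcases h.W_c hx.1 with h2 | h2 <;> rw [h2] at h1
    · exact mem_sup_left h1
    · exact mem_sup_right h1
  · have h1 := W_conj_mem h.hD n h.dS.1 hv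
    rcases h.W_d hx.1 with h2 | h2 <;> rw [h2] at h1
    · exact mem_sup_left h1
    · exact mem_sup_right h1

theorem Mx.norm_DS (h : Mx D K p F a c d) : F ⊓ normalizer (D.diagonalSubgroup K : Set (GL D.Idx K)) ≤
    normalizer (DS D K a : Set (GL D.Idx K)) := by
  refine le_normalizer_of fun x hx => ?_
  obtain ⟨n, rfl⟩ := h.mono hx.1 hx.2
  have hD := h.hD
  have hna : W hD n (D.neg a) = D.neg (W hD n a) := W_neg hD n h.aS.1
  refine norm_sup (fun v hv => ?_) fun v hv => ?_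
  · have h1 := W_conj_mem h.hD n h.aS.1 hv
    rcases h.W_a hx.1 with h2 | h2 <;> rw [h2] at h1
    · exact mem_sup_left h1
    · exact mem_sup_right h1
  · have h1 := W_conj_mem h.hD n (NPerm.neg_lt hD h.aS.1) hv
    rw [hna] at h1
    rcases h.W_a hx.1 with h2 | h2 <;> rw [h2] at h1
    · exact mem_sup_right h1
    · rw [H428.OT.neg_neg' hD h.tri.ha] at h1
      exact mem_sup_left h1

theorem Mx.DF_eq (h : Mx D K p F a c d) : DF D K F = VV D K c d ⊔ DS D K a := by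
  unfold DF VV DS
  rw [h.S]
  apply le_antisymm
  · refine iSup₂_le fun r hr => ?_
    simp only [Set.mem_insert_iff, Set.mem_singleton_iff] at hr
    rcases hr with rfl | rfl | rfl | rfl
    · exact le_sup_left.trans le_sup_right
    · exact le_sup_right.trans le_sup_right
    · exact le_sup_left.trans le_sup_left
    · exact le_sup_right.trans le_sup_left
  · have key : ∀ r ∈ ({a, D.neg a, c, d} : Set ℕ), D.rootSubgroup K r ≤
        (⨆ r ∈ ({a, D.neg a, c, d} : Set ℕ), D.rootSubgroup K r : Subgroup (GL D.Idx K)) := fun r hr =>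
      le_iSup₂ (f := fun r (_ : r ∈ ({a, D.neg a, c, d} : Set ℕ)) => D.rootSubgroup K r) r hr
    exact sup_le (sup_le (key c (by simp)) (key d (by simp))) (sup_le (key a (by simp)) (key (D.neg a) (by simp)))

theorem Mx.V_le_DF (h : Mx D K p F a c d) : VV D K c d ≤ DF D K F := by rw [h.DF_eq]; exact le_sup_left
theorem Mx.DS_le_DF (h : Mx D K p F a c d) : DS D K a ≤ DF D K F := by rw [h.DF_eq]; exact le_sup_right
theorem Mx.V_le (h : Mx D K p F a c d) : VV D K c d ≤ F := h.V_le_DF.trans (DF_le F)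
theorem Mx.DS_le (h : Mx D K p F a c d) : DS D K a ≤ F := h.DS_le_DF.trans (DF_le F)
theorem Mx.V_le_M (h : Mx D K p F a c d) : VV D K c d ≤ MF D K F := h.V_le_DF.trans (DF_le_MF F)
theorem Mx.DS_le_M (h : Mx D K p F a c d) : DS D K a ≤ MF D K F := h.DS_le_DF.trans (DF_le_MF F)

theorem Mx.M_le_norm (h : Mx D K p F a c d) : MF D K F ≤ normalizer (VV D K c d : Set (GL D.Idx K)) := by
  refine sup_le ?_ h.norm_V
  rw [h.DF_eq]
  exact sup_le le_normalizer (h.tri.DS_le_norm h.hD)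

/-- `M = V D_a N_F(T)` -/
theorem Mx.mem_M (h : Mx D K p F a c d) {m : GL D.Idx K} (hm : m ∈ MF D K F) :
    ∃ v ∈ VV D K c d, ∃ l ∈ DS D K a, ∃ n : ↥(D.monomialSubgroup K), (n : GL D.Idx K) ∈ F ∧ m = v * l * n := by
  obtain ⟨x, hx, n, hnF, hnT, rfl⟩ := (H274.OT.mem_MF h.hy h.mb.le).1 hm
  obtain ⟨n, rfl⟩ := h.mono hnF hnT
  have h1 : x ∈ ((VV D K c d ⊔ DS D K a : Subgroup (GL D.Idx K)) : Set (GL D.Idx K)) := by
    rw [← h.DF_eq]; exact hx
  rw [coe_mul_of_right_le_normalizer_left _ _ (h.tri.DS_le_norm h.hD), Set.mem_mul] at h1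
  obtain ⟨v, hv, l, hl, e⟩ := h1
  exact ⟨v, hv, l, hl, n, hnF, by rw [e]⟩

/-! ### the involution `z` -/

theorem neg_one_ne : (-1 : K) ≠ 0 := neg_ne_zero.2 one_ne_zero

/-- `z = h_a(-1)` -/
theorem Mx.z_mem (h : Mx D K p F a c d) : hG h.hD a (-1 : K) ∈ D.diagonalSubgroup K := hG_mem h.hD h.aS.1 neg_one_ne

theorem Mx.z_chi (h : Mx D K p F a c d) {s : ℕ} (hs : s < D.nroots) :
    chi D K (hG h.hD a (-1 : K)) s = (-1) ^ pr D a s := chi_hG h.hD h.aS.1 hs neg_one_ne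

theorem Mx.z_inv (h : Mx D K p F a c d) {v : GL D.Idx K} (hv : v ∈ VV D K c d) :
    hG h.hD a (-1 : K) * v * (hG h.hD a (-1 : K))⁻¹ = v⁻¹ := by
  have hD := h.hD
  obtain ⟨t, u, rfl⟩ := (h.tri.mem_VV hD).1 hv
  have h1 := tor_conj_xG hD h.z_mem h.cS.1 t
  have h2 := tor_conj_xG hD h.z_mem h.dS.1 u
  rw [h.z_chi h.cS.1, h.tri.ac, zpow_one, neg_one_mul] at h1
  rw [h.z_chi h.dS.1, h.tri.ad] at h2
  have e0 : ((-1 : K) ^ (-1 : ℤ)) = -1 := by norm_num
  rw [e0, neg_one_mul] at h2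
  rw [← xG_inv] at h1 h2
  have e : hG hD a (-1 : K) * (xG hD c t * xG hD d u) * (hG hD a (-1 : K))⁻¹ =
      (hG hD a (-1 : K) * xG hD c t * (hG hD a (-1 : K))⁻¹) * (hG hD a (-1 : K) * xG hD d u * (hG hD a (-1 : K))⁻¹) := by
    group
  rw [e, h1, h2, mul_inv_rev, ← mul_inv_rev, ← mul_inv_rev, h.tri.comm_cd hD]

/-- `z` centralises `D_a` -/
theorem Mx.z_DS (h : Mx D K p F a c d) {x : GL D.Idx K} (hx : x ∈ DS D K a) :
    hG h.hD a (-1 : K) * x = x * hG h.hD a (-1 : K) := by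
  refine (comm_DS_iff h.hD h.aS.1 h.z_mem).2 ?_ x hx
  rw [h.z_chi h.aS.1, H428.OT.pr_self h.hD h.aS.1]
  norm_num

theorem Mx.z_tor (h : Mx D K p F a c d) {t : GL D.Idx K} (ht : t ∈ D.diagonalSubgroup K) :
    hG h.hD a (-1 : K) * t = t * hG h.hD a (-1 : K) := H460.OT.diag_comm h.hD h.z_mem ht

theorem Mx.z_n (h : Mx D K p F a c d) {n : ↥(D.monomialSubgroup K)} (hn : (n : GL D.Idx K) ∈ F) :
    hG h.hD a (-1 : K) * n = n * hG h.hD a (-1 : K) := by
  have hD := h.hD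
  have h1 : (n : GL D.Idx K) * hG hD a (-1 : K) * (n : GL D.Idx K)⁻¹ = hG hD a (-1) := by
    refine eq_of_chi_W hD n (H3.OT.conj_mem_tor hD n h.z_mem) h.z_mem fun s hs => ?_
    rw [W_chi hD n h.z_mem hs, h.z_chi hs, h.z_chi (W_lt hD n hs)]
    have h2 := W_pr hD n h.aS.1 hs
    rcases h.W_a hn with h3 | h3
    · rw [h3] at h2
      rw [h2]
    · rw [h3, H460.OT.Short.pr_neg_left hD h.aS.1] at h2
      rw [← h2, zpow_neg, ← inv_zpow]
      norm_num
  calc hG h.hD a (-1 : K) * n = ((n : GL D.Idx K) * hG hD a (-1 : K) * (n : GL D.Idx K)⁻¹) * n := by rw [h1]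
    _ = _ := by group

theorem Mx.z_sq (h : Mx D K p F a c d) : (hG h.hD a (-1 : K)) ^ 2 = 1 := by
  refine H893.OT.eq_of_chi h.hD (pow_mem h.z_mem 2) (one_mem _) fun s hs => ?_
  rw [pow_two, chi_mul h.hD h.z_mem h.z_mem, h.z_chi hs, chi_one, ← mul_zpow]
  norm_num

end

end Cfsg.Agent.H175.OT.Mix
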