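import Cfsg.Agent.H175.OT.MixB
import Cfsg.Agent.H501.OT.VConj

/-!
# S2539, part 5, mixed case: centralisers (helper175)

* `V_disj` : `V ∩ D_a T = 1`; `cent_le` : `C_F(t) ≤ M` for `t ∈ T` not central on `V`; `cent_z` : `C_F(z) = D_a N_F(T)`;
* `iso_M` : `z` is isolated in `M`;
* `mem_GS_of_fix`, `mem_tor_of_fix`: `n ∈ N_F(T)` with `W n a = a` fixing the roots orthogonal to `S_F` lies in `T`;
* `not_conj` : `v s = g h_{g₀}(c)^i g⁻¹`, `s ∈ T`, `v ∈ V` implies `g ∈ M`.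
-/

set_option autoImplicit false
set_option linter.unusedSectionVars false

namespace Cfsg.Agent.H175.OT.Mix

open Subgroup
open Cfsg Cfsg.Lie Cfsg.Lie.ChevalleyDatum
open Cfsg.Agent.ChevalleyStructure Cfsg.Agent.ChevalleyStructure.Elts Cfsg.Agent.ChevalleyStructure.NPerm
open Cfsg.Agent.H412.OT Cfsg.Agent.H175.OT
open Cfsg.Agent.ChevalleyStructure.RootVec (rt)

universe u

variable {D : ChevalleyDatum} {K : Type u} [Field K] [Fintype K] {p : ℕ} [Fact p.Prime] [CharP K p]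
  {F : Subgroup (GL D.Idx K)} {a c d : ℕ}

theorem Mx.p2 (h : Mx D K p F a c d) : p ≠ 2 := h.hy.ne2 (by rw [h.D4]; simp)

theorem Mx.two (h : Mx D K p F a c d) : (2 : K) ≠ 0 := two_ne_zero' h.hy (Or.inl h.D4)

theorem Mx.odd (h : Mx D K p F a c d) : ∃ b < D.nroots, Odd (pr D a b) := ⟨c, h.cS.1, by rw [h.tri.ac]; decide⟩

theorem Mx.sd (h : Mx D K p F a c d) : SD D a := sd_of (Or.inl h.D4) h.aS.1

/-- no elements of order two in `V` -/
theorem Mx.V_sq (h : Mx D K p F a c d) {v : GL D.Idx K} (hv : v ∈ VV D K c d) (h2 : v ^ 2 = 1) : v = 1 := by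
  obtain ⟨k, hk⟩ := h.tri.isPGroup_VV h.hD p ⟨v, hv⟩
  have hk' : v ^ p ^ k = 1 := congrArg Subtype.val hk
  have h1 : orderOf v ∣ 2 := orderOf_dvd_of_pow_eq_one h2
  have h3 : orderOf v ∣ p ^ k := orderOf_dvd_of_pow_eq_one hk'
  have h4 : Nat.Coprime 2 (p ^ k) :=
    Nat.Coprime.pow_right _ ((Nat.coprime_primes Nat.prime_two (Fact.out : p.Prime)).2 h.p2.symm)
  exact orderOf_eq_one_iff.1 (Nat.eq_one_of_dvd_coprimes h4 h1 h3)

/-- `C_V(z) = 1` -/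
theorem Mx.V_cent (h : Mx D K p F a c d) {v : GL D.Idx K} (hv : v ∈ VV D K c d)
    (hz : hG h.hD a (-1 : K) * v = v * hG h.hD a (-1 : K)) : v = 1 := by
  refine h.V_sq hv ?_
  have h1 := h.z_inv hv
  rw [hz, mul_inv_cancel_right] at h1
  rw [pow_two]
  nth_rewrite 1 [h1]
  rw [inv_mul_cancel]

theorem Mx.z_DT (h : Mx D K p F a c d) {x : GL D.Idx K} (hx : x ∈ DS D K a ⊔ D.diagonalSubgroup K) :
    hG h.hD a (-1 : K) * x = x * hG h.hD a (-1 : K) := by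
  have h1 : DS D K a ⊔ D.diagonalSubgroup K ≤ centralizer ({hG h.hD a (-1 : K)} : Set (GL D.Idx K)) := by
    refine sup_le (fun y hy => ?_) fun y hy => ?_
    · rw [mem_centralizer_singleton_iff]
      exact (h.z_DS hy).symm
    · rw [mem_centralizer_singleton_iff]
      exact (h.z_tor hy).symm
  exact (mem_centralizer_singleton_iff.1 (h1 hx)).symm

theorem Mx.V_disj (h : Mx D K p F a c d) {v : GL D.Idx K} (hv : v ∈ VV D K c d)
    (hv' : v ∈ DS D K a ⊔ D.diagonalSubgroup K) : v = 1 := h.V_cent hv (h.z_DT hv')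

/-- `C_F(t) ≤ M` for `t ∈ T` with `χ_c(t) ≠ 1` -/
theorem Mx.cent_le (h : Mx D K p F a c d) {t : GL D.Idx K} (ht : t ∈ D.diagonalSubgroup K)
    (hc : ¬ ∀ x ∈ F, x * t = t * x) {x : GL D.Idx K} (hx : x ∈ F) (hxt : x * t = t * x) : x ∈ MF D K F := by
  have h1 : F ⊓ centralizer ({t} : Set (GL D.Idx K)) < F := by
    refine lt_of_le_of_ne inf_le_left fun e => hc fun y hy => ?_
    rw [← e] at hy
    exact mem_centralizer_singleton_iff.1 hy.2
  refine h.mb.le_MF_of_lt (le_inf h.mb.tor fun s hs => ?_) h1 ⟨hx, mem_centralizer_singleton_iff.2 hxt⟩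
  exact mem_centralizer_singleton_iff.2 (H460.OT.diag_comm h.hD hs ht)

theorem Mx.not_central_of (h : Mx D K p F a c d) {t : GL D.Idx K} (ht : t ∈ D.diagonalSubgroup K)
    (hc : chi D K t c ≠ 1) : ¬ ∀ x ∈ F, x * t = t * x := by
  intro h1
  have h2 := h1 _ (h.cS.2 (xG_mem_rootSubgroup h.hD c 1))
  have h3 := tor_conj_xG h.hD ht h.cS.1 (1 : K)
  rw [← h2, mul_inv_cancel_right, mul_one] at h3
  exact hc (xG_injective h.hD h.cS.1 h3).symm

theorem Mx.neg_one_ne_one (h : Mx D K p F a c d) : (-1 : K) ≠ 1 := by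
  intro e
  apply h.two
  linear_combination -e

theorem Mx.cent_z (h : Mx D K p F a c d) {x : GL D.Idx K} (hx : x ∈ F)
    (hxz : x * hG h.hD a (-1 : K) = hG h.hD a (-1 : K) * x) :
    ∃ l ∈ DS D K a, ∃ n : ↥(D.monomialSubgroup K), (n : GL D.Idx K) ∈ F ∧ x = l * n := by
  have hM : x ∈ MF D K F := by
    refine h.cent_le h.z_mem (h.not_central_of h.z_mem ?_) hx hxz
    rw [h.z_chi h.cS.1, h.tri.ac, zpow_one]
    exact h.neg_one_ne_one
  obtain ⟨v, hv, l, hl, n, hn, rfl⟩ := h.mem_M hM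
  have h1 : v = 1 := by
    refine h.V_cent hv ?_
    have e1 := h.z_DS hl
    have e2 := h.z_n hn
    have e3 : hG h.hD a (-1 : K) * (l * n) = (l * n) * hG h.hD a (-1 : K) := by
      rw [← mul_assoc, e1, mul_assoc, e2, mul_assoc]
    have e4 : v * (l * n) * hG h.hD a (-1 : K) = hG h.hD a (-1 : K) * (v * (l * n)) := by
      rw [← mul_assoc v]; exact hxz
    have e5 : hG h.hD a (-1 : K) * v * (l * n) = v * hG h.hD a (-1 : K) * (l * n) := by
      rw [mul_assoc, ← e4, mul_assoc v, mul_assoc v, e3]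
    exact mul_right_cancel e5
  exact ⟨l, hl, n, hn, by rw [h1, one_mul]⟩

/-- `z` is isolated in `M` -/
theorem Mx.iso_M (h : Mx D K p F a c d) {g : GL D.Idx K} (hg : g ∈ MF D K F)
    (hc : Commute (hG h.hD a (-1 : K)) (g * hG h.hD a (-1 : K) * g⁻¹)) :
    g * hG h.hD a (-1 : K) * g⁻¹ = hG h.hD a (-1 : K) := by
  obtain ⟨v, hv, l, hl, n, hn, rfl⟩ := h.mem_M hg
  set z := hG h.hD a (-1 : K) with hz
  have e1 := h.z_DS hl
  have e2 := h.z_n hn
  have e3 : z * (l * n) = (l * n) * z := by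
    rw [← mul_assoc, e1, mul_assoc, e2, mul_assoc]
  have e4 : v * l * n * z * (v * l * n)⁻¹ = v * z * v⁻¹ := by
    have : v * l * n * z * (v * l * n)⁻¹ = v * ((l * n) * z) * (l * n)⁻¹ * v⁻¹ := by group
    rw [this, ← e3]
    group
  rw [e4] at hc ⊢
  -- `v z v⁻¹ = v² z`
  have e5 : z * v⁻¹ = v * z := by
    have := h.z_inv (inv_mem hv)
    rw [inv_inv, mul_inv_eq_iff_eq_mul] at this
    exact this
  have e6 : v * z * v⁻¹ = v ^ 2 * z := by rw [mul_assoc, e5, pow_two, mul_assoc]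
  rw [e6] at hc ⊢
  have e7 : z * v ^ 2 = v ^ 2 * z := by
    have h1 : z * (v ^ 2 * z) = v ^ 2 * z * z := hc
    rw [← mul_assoc] at h1
    exact mul_right_cancel h1
  have e8 : v ^ 2 = 1 := h.V_cent (pow_mem hv 2) e7
  rw [e8, one_mul]

/-- the group `V⟨s⟩` -/
theorem Mx.not_conj (h : Mx D K p F a c d) {g t s v : GL D.Idx K} (hg : g ∈ F) (ht : t ∈ D.diagonalSubgroup K)
    (htc : chi D K t c ≠ 1) (hs : s ∈ D.diagonalSubgroup K) (hv : v ∈ VV D K c d)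
    (he : g * t * g⁻¹ = v * s) : g ∈ MF D K F := by
  have hD := h.hD
  have hfin : Finite (GL D.Idx K) := inferInstance
  have hcop : (Fintype.card K - 1).Coprime (Nat.card (VV D K c d)) := by
    have hpV : IsPGroup p ↥(VV D K c d) := h.tri.isPGroup_VV hD p
    obtain ⟨k, hk⟩ := IsPGroup.iff_card.1 hpV
    rw [hk]
    apply Nat.Coprime.pow_right
    obtain ⟨n, hp, hn⟩ := FiniteField.card K p
    rw [hn]
    have h0 : 1 ≤ p ^ (n : ℕ) := Nat.one_le_pow _ _ (Fact.out : p.Prime).pos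
    have h1 : Nat.Coprime (p ^ (n : ℕ) - 1) (p ^ (n : ℕ)) := by
      have : Nat.Coprime (p ^ (n : ℕ) - 1) ((p ^ (n : ℕ) - 1) + 1) := by simp
      rwa [Nat.sub_add_cancel h0] at this
    exact Nat.Coprime.coprime_dvd_right (dvd_pow_self p n.ne_zero) h1
  have h1 : (v * s) ^ (Fintype.card K - 1) = 1 := by
    rw [← he, conj_pow, tor_pow hD ht, mul_one, mul_inv_cancel]
  obtain ⟨u, hu, h2⟩ := H501.OT.exists_conj_comp (V := VV D K c d) (h.tri.V_comm hD) (s := s) hv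
    (fun x hx => (mem_normalizer_iff.1 (tor_le_norm_VV hD h.cS.1 h.dS.1 hs) x).1 hx) hcop h1 (tor_pow hD hs)
  -- `g' = u⁻¹ g`
  have huM : u ∈ MF D K F := h.V_le_M hu
  have h3 : (u⁻¹ * g) * t * (u⁻¹ * g)⁻¹ = s := by
    have e : (u⁻¹ * g) * t * (u⁻¹ * g)⁻¹ = u⁻¹ * (g * t * g⁻¹) * u := by group
    rw [e, he, ← h2]
    group
  have hgF : u⁻¹ * g ∈ F := mul_mem (inv_mem (h.V_le hu)) hg
  have hsc : ¬ ∀ x ∈ F, x * s = s * x := by
    intro h4
    refine h.not_central_of ht htc fun x hx => ?_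
    have h5 := h4 ((u⁻¹ * g) * x * (u⁻¹ * g)⁻¹) (mul_mem (mul_mem hgF hx) (inv_mem hgF))
    rw [← h3] at h5
    have e1 : (u⁻¹ * g) * x * (u⁻¹ * g)⁻¹ * ((u⁻¹ * g) * t * (u⁻¹ * g)⁻¹) = (u⁻¹ * g) * (x * t) * (u⁻¹ * g)⁻¹ := by group
    have e2 : (u⁻¹ * g) * t * (u⁻¹ * g)⁻¹ * ((u⁻¹ * g) * x * (u⁻¹ * g)⁻¹) = (u⁻¹ * g) * (t * x) * (u⁻¹ * g)⁻¹ := by group
    rw [e1, e2] at h5
    exact mul_left_cancel (mul_right_cancel h5)
  have hV1 : VV D K c d ≠ ⊥ := by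
    intro e
    have h5 : xG hD c (1 : K) ∈ VV D K c d := mem_sup_left (xG_mem_rootSubgroup hD c 1)
    rw [e, mem_bot, xG_eq_one_iff hD h.cS.1] at h5
    exact one_ne_zero h5
  have h4 : u⁻¹ * g ∈ MF D K F := by
    refine mem_of_tor_V h.hy h.two h.mb h.aS.1 h.odd hV1 (h.tri.isPGroup_VV hD p) h.V_le h.M_le_norm h.DF_eq hgF
      fun r hr => ?_
    refine h.cent_le hs hsc (mul_mem (mul_mem hgF (h.mb.tor hr)) (inv_mem hgF)) ?_
    rw [← h3]
    have e1 : (u⁻¹ * g) * r * (u⁻¹ * g)⁻¹ * ((u⁻¹ * g) * t * (u⁻¹ * g)⁻¹) = (u⁻¹ * g) * (r * t) * (u⁻¹ * g)⁻¹ := by group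
    have e2 : (u⁻¹ * g) * t * (u⁻¹ * g)⁻¹ * ((u⁻¹ * g) * r * (u⁻¹ * g)⁻¹) = (u⁻¹ * g) * (t * r) * (u⁻¹ * g)⁻¹ := by group
    rw [e1, e2, H460.OT.diag_comm hD hr ht]
  have e : g = u * (u⁻¹ * g) := by group
  rw [e]
  exact mul_mem huM h4

end Cfsg.Agent.H175.OT.Mix
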