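import Cfsg.Agent.H175.OT.MixC
import Cfsg.Agent.H82.RootCent

/-!
# S2539, part 5, mixed case: the Weyl group facts (helper175)

* `mem_GS_of_fix` : `n ∈ N` fixing the roots in `P` lies in `G(S)` if every root outside `S` is not orthogonal to a root of `P`;
* `Mx.mem_LT_of_fix` : `n ∈ N_F(T)` fixing the roots orthogonal to `S_F` lies in `D_a T`;
* `Mx.exists_fixed` : an involutory `n ∈ N_F(T)` fixes a root `g` with `g ⟂ a`, `⟨c, g^∨⟩ = 1`.
-/

set_option autoImplicit false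
set_option linter.unusedSectionVars false

namespace Cfsg.Agent.H175.OT.Mix

open Subgroup
open Cfsg Cfsg.Lie Cfsg.Lie.ChevalleyDatum
open Cfsg.Agent.ChevalleyStructure Cfsg.Agent.ChevalleyStructure.Elts Cfsg.Agent.ChevalleyStructure.NPerm
open Cfsg.Agent.H412.OT Cfsg.Agent.H175.OT Cfsg.Agent.H194.OT
open Cfsg.Agent.ChevalleyStructure.RootVec (rt)
open Cfsg.Agent.ChevalleyStructure.SL2Hom (up lo)

universe u

section Fix

variable {D : ChevalleyDatum} {K : Type u} [Field K]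

/-- an element of `N` fixing the roots in `P` -/
theorem mem_GS_of_fix [Fintype K] (hD : InList D) {P S : Set ℕ} (hP : P ⊆ {r | r < D.nroots})
    (hT : ∀ a < D.nroots, a ∉ S → ∃ r ∈ P, pr D r a ≠ 0) (n : ↥(D.monomialSubgroup K))
    (hn : ∀ r ∈ P, W hD n r = r) : (n : GL D.Idx K) ∈ GS D K S := by
  classical
  obtain ⟨l, M, hp⟩ := H3.OT.exists_isType hD
  let cs : CoxeterSystem M M.Group := M.toCoxeterSystem
  have hW : Finite M.Group := Nodes.RGDChev.finite_W hp cs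
  obtain ⟨p, hcp⟩ := CharP.exists K
  have hpf : Fact p.Prime := ⟨CharP.char_is_prime K p⟩
  obtain ⟨w, hw, hrep⟩ := H274.OT.exists_rp_rep hp cs p n
  obtain ⟨v, hv⟩ : ∃ v : Fin l → ℤ, v = ∑ r : Fin D.nroots, (if (r : ℕ) ∈ P then (10 : ℤ) ^ (r : ℕ) else 0) •
    Nodes.RGDChev.vec D l r := ⟨_, rfl⟩
  have hfix : ChevalleyStructure.CoxeterGeom.rep cs hp.isCartan w v = v := by
    rw [hv, map_sum]
    refine Finset.sum_congr rfl fun r _ => ?_
    rw [map_smul, ← hrep]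
    by_cases hr : (r : ℕ) ∈ P
    · have h1 := hn r hr
      rw [W_of hD n r.2] at h1
      rw [h1]
    · rw [if_neg hr, zero_smul, zero_smul]
  have h1 := H274.OT.mem_of_fix (Nodes.RGDChev.rgd_GL (K := K) hp cs p) hw hfix
  refine (sup_le (H3.OT.tor_le_GS S) (Nodes.BNOf.RGD.Sup_le fun x hx => ?_) : _ ≤ GS D K S) h1
  obtain ⟨hx1, hx2⟩ := hx
  obtain ⟨s, hs, rfl⟩ := (Nodes.RGDChev.isRoot_iff hp cs x).1 hx1
  rw [Nodes.RGDChev.XV_vec hp K hs]
  refine H3.OT.root_le_GS ?_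
  by_contra hsS
  obtain ⟨r, hr, hrs⟩ := hT s hs hsS
  have hr' : r < D.nroots := hP hr
  -- `⟨v, s^∨⟩ = 0` as a sum of digits
  have h2 : ∀ t : Finset (Fin D.nroots), Nodes.Coroot.cpr cs hp.isCartan
      (∑ r ∈ t, (if (r : ℕ) ∈ P then (10 : ℤ) ^ (r : ℕ) else 0) • Nodes.RGDChev.vec D l r) (Nodes.RGDChev.vec D l s) =
      ∑ r ∈ t, (10 : ℤ) ^ (r : ℕ) * (if (r : ℕ) ∈ P then pr D s r else 0) := by
    intro t
    induction t using Finset.induction_on with
    | empty =>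
      rw [Finset.sum_empty, Finset.sum_empty]
      have := Nodes.Coroot.cpr_smul cs hp.isCartan 0 (0 : Fin l → ℤ) hx1
      rwa [zero_smul, zero_mul] at this
    | insert a t ha ih =>
      rw [Finset.sum_insert ha, Finset.sum_insert ha, Nodes.Coroot.cpr_add cs hp.isCartan _ _ hx1, ih,
        Nodes.Coroot.cpr_smul cs hp.isCartan _ _ hx1, H3.OT.cpr_vec' hp cs hs a.2]
      by_cases h3 : (a : ℕ) ∈ P
      · rw [if_pos h3, if_pos h3]
      · rw [if_neg h3, if_neg h3, zero_mul, mul_zero]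
  have h3 : ∑ i ∈ Finset.range D.nroots, (10 : ℤ) ^ i * (if i ∈ P then pr D s i else 0) = 0 := by
    rw [Finset.sum_range, ← h2 Finset.univ, ← hv, hx2]
  have h4 := H274.OT.digits_zero (fun i => if i ∈ P then pr D s i else 0) (fun i => by
    show |if i ∈ P then pr D s i else 0| ≤ 3
    by_cases h5 : i ∈ P
    · rw [if_pos h5]
      exact H274.OT.abs_pr_le hD hs (hP h5)
    · rw [if_neg h5]; norm_num) _ h3 r hr'
  change (if r ∈ P then pr D s r else 0) = 0 at h4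
  rw [if_pos hr, ← H3.OT.cpr_vec' hp cs hs hr', Nodes.Coroot.cpr_zero_comm cs hp.isCartan
    (Nodes.RGDChev.isRoot_vec hp cs hr') (Nodes.RGDChev.isRoot_vec hp cs hs), H3.OT.cpr_vec' hp cs hr' hs] at h4
  exact hrs h4

theorem GS_empty : GS D K ∅ = D.diagonalSubgroup K := by
  unfold GS
  simp

/-- `n_a` maps `a` to `-a` -/
theorem W_nG (hD : InList D) {a : ℕ} (ha : a < D.nroots) :
    W hD (⟨nG hD a 1, nG_one_mem_monomial hD ha⟩ : ↥(D.monomialSubgroup K)) a = D.neg a := by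
  obtain ⟨c, hc, h3⟩ := H3.OT.conj_xG hD (⟨nG hD a 1, nG_one_mem_monomial hD ha⟩ : ↥(D.monomialSubgroup K)) ⟨a, ha⟩
  have h4 : (wd : Matrix.SpecialLinearGroup (Fin 2) K) * up 1 = lo (-1) * wd := by
    apply ext2
    · rw [mul2, mul2]
      show (0 : K) * 1 + 1 * 0 = 1 * 0 + 0 * -1
      ring
    · rw [mul2, mul2]
      show (0 : K) * 1 + 1 * 1 = 1 * 1 + 0 * 0
      ring
    · rw [mul2, mul2]
      show (-1 : K) * 1 + 0 * 0 = -1 * 0 + 1 * -1
      ring
    · rw [mul2, mul2]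
      show (-1 : K) * 1 + 0 * 1 = -1 * 1 + 1 * 0
      ring
  have h5 := congrArg (ph hD ha K) h4
  rw [map_mul, map_mul, ph_wd, ph_up, ph_lo, ← mul_inv_eq_iff_eq_mul] at h5
  have h6 : xG hD (permHom hD K (⟨nG hD a 1, nG_one_mem_monomial hD ha⟩ : ↥(D.monomialSubgroup K)) ⟨a, ha⟩ : Fin D.nroots)
      (c * 1) = xG hD (D.neg a) (-1) := (h3 1).symm.trans h5
  rw [W_of hD _ ha]
  exact (H82.RootCent.eq_of_xG_eq hD (Fin.is_lt _) (NPerm.neg_lt hD ha) (mul_ne_zero hc one_ne_zero) h6).symm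

theorem nG_mem_DS (hD : InList D) {a : ℕ} (ha : a < D.nroots) : nG hD a (1 : K) ∈ DS D K a := by
  rw [← ph_wd hD ha]
  exact ph_mem hD ha _

end Fix

section M1

open Cfsg.Agent.H460.OT.Short
open Cfsg.Agent.ChevalleyStructure.RootCombBase (allLt allLt_spec anyLt anyLt_spec ieq ieq_spec)

/-- the short roots `g` with `g ⟂ a`, `⟨c, g^∨⟩ = 1` -/
def PR (a c g : ℕ) : Bool := and (Nat.beq (pT pF 48 g a) 3) (and (Nat.beq (pT pF 48 g c) 4) (not (lT lF g)))

def m1 : Bool := allLt (fun a => or (lT lF a) (allLt (fun c => or (lT lF c) (or (not (Nat.beq (pT pF 48 a c) 4))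
  (Nat.beq (cnt (PR a c) 48) 3))) 48)) 48

theorem m1_ok : m1 = true := by decide +kernel

theorem card_R {a c : ℕ} (ha : a < 48) (hc : c < 48) (h1 : ¬ IsLong chevF4 a) (h2 : ¬ IsLong chevF4 c)
    (h3 : pr chevF4 a c = 1) : ((Finset.range 48).filter fun g => PR a c g = true).card = 3 := by
  have hh := allLt_spec m1_ok a ha
  simp only [Bool.or_eq_true, l_spec chkL_F4 ha] at hh
  have hh := allLt_spec (hh.resolve_left h1) c hc
  simp only [Bool.or_eq_true, l_spec chkL_F4 hc, Bool.not_eq_true', ← Bool.not_eq_true, bq] at hh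
  have hh := (hh.resolve_left h2).resolve_left (not_not.2 ((pT_of ha hc).2 h3))
  rw [cnt_eq] at hh
  exact hh

theorem PR_iff {a c g : ℕ} (ha : a < 48) (hc : c < 48) (hg : g < 48) :
    PR a c g = true ↔ pr chevF4 g a = 0 ∧ pr chevF4 g c = 1 ∧ ¬ IsLong chevF4 g := by
  unfold PR
  have e1 := p_spec chkP_F4 hg ha
  have e2 := p_spec chkP_F4 hg hc
  rw [Bool.and_eq_true, Bool.and_eq_true, Bool.not_eq_true', ← Bool.not_eq_true, l_spec chkL_F4 hg, bq, bq]
  constructor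
  · rintro ⟨h1, h2, h3⟩
    refine ⟨?_, ?_, h3⟩
    · rw [h1] at e1; push_cast at e1; linarith
    · rw [h2] at e2; push_cast at e2; linarith
  · rintro ⟨h1, h2, h3⟩
    refine ⟨?_, ?_, h3⟩
    · rw [h1] at e1; omega
    · rw [h2] at e2; omega

end M1

/-- an involution of a set of odd order has a fixed point -/
theorem exists_fix_of_odd {s : Finset ℕ} (hs : s.card = 3) (f : ℕ → ℕ) (hf : ∀ x ∈ s, f x ∈ s)
    (hff : ∀ x ∈ s, f (f x) = x) : ∃ x ∈ s, f x = x := by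
  by_contra hcon
  push Not at hcon
  have h1 : ∑ _x ∈ s, (1 : ZMod 2) = 0 :=
    Finset.sum_involution (fun x _ => f x) (fun _ _ => by decide) (fun x hx _ => hcon x hx) (fun x hx => hf x hx)
      (fun x hx => hff x hx)
  rw [Finset.sum_const, hs] at h1
  exact absurd h1 (by decide)

theorem perp_A2' {D : ChevalleyDatum} (hD4 : D = chevF4) {a b c x : ℕ} (ha : a < D.nroots) (hb : b < D.nroots)
    (hc : c < D.nroots) (hab : pr D a b = -1) (hba : pr D b a = -1)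
    (hsum : ∀ r < D.nroots, pr D r c = pr D r a + pr D r b) (hx : x < D.nroots)
    (h1 : x ≠ a) (h2 : x ≠ b) (h3 : x ≠ c) (h4 : x ≠ D.neg a) (h5 : x ≠ D.neg b)
    (h6 : x ≠ D.neg c) : ∃ r < D.nroots, pr D r a = 0 ∧ pr D r b = 0 ∧ pr D r x ≠ 0 := by
  subst hD4
  exact H274.OT.perp_A2 ha hb hc hab hba hsum hx h1 h2 h3 h4 h5 h6

theorem exists_R {D : ChevalleyDatum} (hD4 : D = chevF4) {a c : ℕ} (ha : a < D.nroots) (hc : c < D.nroots)
    (h1 : ¬ IsLong D a) (h2 : ¬ IsLong D c) (h3 : pr D a c = 1) :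
    ∃ s : Finset ℕ, (∀ g, g ∈ s ↔ g < D.nroots ∧ pr D g a = 0 ∧ pr D g c = 1 ∧ ¬ IsLong D g) ∧ s.card = 3 := by
  subst hD4
  have hn := H460.OT.Short.nF
  rw [hn] at ha hc
  refine ⟨_, fun g => ?_, card_R ha hc h1 h2 h3⟩
  rw [Finset.mem_filter, Finset.mem_range, hn]
  constructor
  · rintro ⟨h4, h5⟩
    exact ⟨h4, (PR_iff ha hc h4).1 h5⟩
  · rintro ⟨h4, h5⟩
    exact ⟨h4, (PR_iff ha hc h4).2 h5⟩

section

variable {D : ChevalleyDatum} {K : Type u} [Field K] [Fintype K] {p : ℕ}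
  {F : Subgroup (GL D.Idx K)} {a c d : ℕ}

/-- `n ∈ N_F(T)` fixing `a` and the roots orthogonal to `S_F` lies in `T` -/
theorem Mx.mem_tor_of_fix (h : Mx D K p F a c d) {n : ↥(D.monomialSubgroup K)} (hn : (n : GL D.Idx K) ∈ F)
    (ha : W h.hD n a = a) (hfix : ∀ r, H274.OT.Perp D (SF D K F) r → W h.hD n r = r) :
    (n : GL D.Idx K) ∈ D.diagonalSubgroup K := by
  have hD := h.hD
  have hc : W h.hD n c = c := by
    rcases h.W_c hn with h1 | h1
    · exact h1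
    · exfalso
      have h2 := W_pr hD n h.aS.1 h.cS.1
      rw [ha, h1, h.tri.ad, h.tri.ac] at h2
      norm_num at h2
  rw [← GS_empty (D := D) (K := K)]
  refine mem_GS_of_fix hD (P := {r | r = a ∨ r = c ∨ H274.OT.Perp D (SF D K F) r}) ?_ ?_ n ?_
  · rintro r (rfl | rfl | hr)
    · exact h.aS.1
    · exact h.cS.1
    · exact hr.1
  · intro x hx _
    have e1 := H428.OT.pr_self hD h.aS.1
    have e2 := H428.OT.pr_self hD h.cS.1
    by_cases h1 : x = a
    · exact ⟨a, Or.inl rfl, by rw [h1, e1]; norm_num⟩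
    by_cases h2 : x = d
    · exact ⟨a, Or.inl rfl, by rw [h2, h.tri.ad]; norm_num⟩
    by_cases h3 : x = c
    · exact ⟨c, Or.inr (Or.inl rfl), by rw [h3, e2]; norm_num⟩
    by_cases h4 : x = D.neg a
    · exact ⟨a, Or.inl rfl, by rw [h4, H460.OT.Short.pr_neg_right hD h.aS.1, e1]; norm_num⟩
    by_cases h5 : x = D.neg d
    · exact ⟨a, Or.inl rfl, by rw [h5, H460.OT.Short.pr_neg_right hD h.dS.1, h.tri.ad]; norm_num⟩
    by_cases h6 : x = D.neg c
    · exact ⟨c, Or.inr (Or.inl rfl), by rw [h6, H460.OT.Short.pr_neg_right hD h.cS.1, e2]; norm_num⟩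
    have hsum : ∀ r < D.nroots, pr D r c = pr D r a + pr D r d := by
      intro r hr
      have h7 := pr_comb hD (i := 1) (j := 1) h.cS.1 h.aS.1 h.dS.1 (fun i => by rw [h.tri.rt]; push_cast; ring) hr
      rw [h7]
      push_cast
      ring
    obtain ⟨r, hr, h7, h8, h9⟩ : ∃ r < D.nroots, pr D r a = 0 ∧ pr D r d = 0 ∧ pr D r x ≠ 0 := by
      exact perp_A2' h.D4 h.aS.1 h.dS.1 h.cS.1 h.tri.ad h.tri.da hsum hx h1 h2 h3 h4 h5 h6
    refine ⟨r, Or.inr (Or.inr ⟨hr, fun s hs => ?_⟩), h9⟩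
    rcases h.mem_S hs with rfl | rfl | rfl | rfl
    · exact h7
    · rw [H460.OT.Short.pr_neg_right hD h.aS.1, h7, neg_zero]
    · rw [hsum r hr, h7, h8, add_zero]
    · exact h8
  · rintro r (rfl | rfl | hr)
    · exact ha
    · exact hc
    · exact hfix r hr

/-- **(M2)** `n ∈ N_F(T)` fixing the roots orthogonal to `S_F` lies in `D_a T` -/
theorem Mx.mem_LT_of_fix (h : Mx D K p F a c d) {n : ↥(D.monomialSubgroup K)} (hn : (n : GL D.Idx K) ∈ F)
    (hfix : ∀ r, H274.OT.Perp D (SF D K F) r → W h.hD n r = r) :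
    (n : GL D.Idx K) ∈ DS D K a ⊔ D.diagonalSubgroup K := by
  have hD := h.hD
  rcases h.W_a hn with h1 | h1
  · exact mem_sup_right (h.mem_tor_of_fix hn h1 hfix)
  · set m : ↥(D.monomialSubgroup K) := ⟨nG hD a 1, nG_one_mem_monomial hD h.aS.1⟩ with hm
    have hmD : (m : GL D.Idx K) ∈ DS D K a := nG_mem_DS hD h.aS.1
    have hmF : (m : GL D.Idx K) ∈ F := h.DS_le hmD
    have hma : W hD m a = D.neg a := W_nG hD h.aS.1
    have hmfix : ∀ r, H274.OT.Perp D (SF D K F) r → W hD m r = r := by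
      intro r hr
      have hc : (m : GL D.Idx K) ∈ centralizer (H274.OT.YS D K (SF D K F) : Set (GL D.Idx K)) := by
        rw [mem_centralizer_iff]
        intro y hy
        exact ((mem_centralizer_iff.1 hy.2) m (h.DS_le_DF hmD)).symm
      have h2 := H274.OT.perm_fix hD h.q (fun r hr => hr.1) m hc (r := ⟨r, hr.1⟩) hr
      rw [W_of hD m hr.1, h2]
    have h2 : ((m * n : ↥(D.monomialSubgroup K)) : GL D.Idx K) ∈ D.diagonalSubgroup K := by
      refine h.mem_tor_of_fix (mul_mem hmF hn) ?_ fun r hr => ?_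
      · rw [W_mul hD n m h.aS.1, h1, W_neg hD m h.aS.1, hma, H428.OT.neg_neg' hD h.aS.1]
      · rw [W_mul hD n m hr.1, hfix r hr, hmfix r hr]
    have e : (n : GL D.Idx K) = (m : GL D.Idx K)⁻¹ * ((m * n : ↥(D.monomialSubgroup K)) : GL D.Idx K) := by
      rw [Subgroup.coe_mul, inv_mul_cancel_left]
    rw [e]
    exact mul_mem (mem_sup_left (inv_mem hmD)) (mem_sup_right h2)

theorem long_W (hD : InList D) (n : ↥(D.monomialSubgroup K)) {r : ℕ} (hr : r < D.nroots) (h : ¬ IsLong D r) :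
    ¬ IsLong D (W hD n r) := by
  intro h1
  apply h
  obtain ⟨l, M, hp⟩ := H3.OT.exists_isType hD
  have h2 := H501.OT.long_perm hp n⁻¹ (r := ⟨W hD n r, W_lt hD n hr⟩) h1
  rw [← W_of hD n⁻¹ (W_lt hD n hr), W_inv_W hD n hr] at h2
  exact h2

/-- **(M1)** an involutory `n ∈ N_F(T)` fixes a root `g` with `g ⟂ a`, `⟨c, g^∨⟩ = 1`. -/
theorem Mx.exists_fixed (h : Mx D K p F a c d) {n : ↥(D.monomialSubgroup K)} (hn : (n : GL D.Idx K) ∈ F)
    (hn2 : (n : GL D.Idx K) ^ 2 = 1) : ∃ g < D.nroots, W h.hD n g = g ∧ pr D g a = 0 ∧ pr D g c = 1 := by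
  have hD := h.hD
  have hww : ∀ r < D.nroots, W hD n (W hD n r) = r := by
    intro r hr
    have e : n * n = 1 := Subtype.ext (by rw [Subgroup.coe_mul, ← pow_two, hn2]; rfl)
    rw [← W_mul hD n n hr, e, W_one]
  have hsum : ∀ r < D.nroots, pr D r c = pr D r a + pr D r d := by
    intro r hr
    have h7 := pr_comb hD (i := 1) (j := 1) h.cS.1 h.aS.1 h.dS.1 (fun i => by rw [h.tri.rt]; push_cast; ring) hr
    rw [h7]
    push_cast
    ring
  -- the set
  obtain ⟨s, hs, hcard⟩ : ∃ s : Finset ℕ, (∀ g, g ∈ s ↔ g < D.nroots ∧ pr D g a = 0 ∧ pr D g c = 1 ∧ ¬ IsLong D g) ∧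
      s.card = 3 := exists_R h.D4 h.aS.1 h.cS.1 h.sa h.sc h.tri.ac
  obtain ⟨g, hg, hfix⟩ := exists_fix_of_odd hcard (W hD n) (fun g hg => by
      obtain ⟨h1, h2, h3, h4⟩ := (hs g).1 hg
      have h5 : pr D (W hD n g) a = 0 := by
        have h6 := W_pr hD n h1 h.aS.1
        rcases h.W_a hn with h7 | h7
        · rw [h7] at h6; rw [h6, h2]
        · rw [h7, H460.OT.Short.pr_neg_right hD h.aS.1, h2] at h6
          linarith
      refine (hs _).2 ⟨W_lt hD n h1, h5, ?_, long_W hD n h1 h4⟩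
      have h6 := W_pr hD n h1 h.cS.1
      rcases h.W_c hn with h7 | h7
      · rw [h7] at h6; rw [h6, h3]
      · rw [h7] at h6
        rw [hsum _ (W_lt hD n h1), h5, h6, h3, zero_add]) (fun g hg => hww g ((hs g).1 hg).1)
  obtain ⟨h1, h2, h3, h4⟩ := (hs g).1 hg
  exact ⟨g, h1, hfix, h2, h3⟩

end

end Cfsg.Agent.H175.OT.Mix
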