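import Cfsg.Agent.H175.OT.MixD
import Cfsg.Agent.H249.OT.Isol

/-!
# S2539, part 5, mixed case (helper175)

* `iso` : `z` is an isolated involution of `F`;
* `mix` : the mixed case.
-/

set_option autoImplicit false
set_option linter.unusedSectionVars false

namespace Cfsg.Agent.H175.OT.Mix

open Subgroup
open Cfsg Cfsg.Lie Cfsg.Lie.ChevalleyDatum
open Cfsg.Agent.ChevalleyStructure Cfsg.Agent.ChevalleyStructure.Elts Cfsg.Agent.ChevalleyStructure.NPerm
open Cfsg.Agent.H412.OT Cfsg.Agent.H175.OT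

universe u

variable {D : ChevalleyDatum} {K : Type u} [Field K] [Fintype K] {p : ℕ} [Fact p.Prime] [CharP K p]
  {F : Subgroup (GL D.Idx K)} {a c d : ℕ}

/-- `D_a N_F(T)` normalises `Y = C_T(D_a)` -/
theorem Mx.norm_YS (h : Mx D K p F a c d) {l : GL D.Idx K} (hl : l ∈ DS D K a) {n : ↥(D.monomialSubgroup K)}
    (hn : (n : GL D.Idx K) ∈ F) :
    l * n ∈ normalizer (H274.OT.YS D K {a, D.neg a} : Set (GL D.Idx K)) := by
  have hD := h.hD
  have hS : ({a, D.neg a} : Set ℕ) ⊆ {r | r < D.nroots} := by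
    rintro r (rfl | rfl)
    · exact h.aS.1
    · exact h.naS.1
  refine mul_mem ?_ ?_
  · refine centralizer_le_normalizer _ ?_
    rw [mem_centralizer_iff]
    intro y hy
    have h1 : l ∈ (⨆ r ∈ ({a, D.neg a} : Set ℕ), D.rootSubgroup K r : Subgroup (GL D.Idx K)) := by
      rw [iSup_pair]; exact hl
    exact ((mem_centralizer_iff.1 hy.2) l h1).symm
  · have key : ∀ m : ↥(D.monomialSubgroup K), (m : GL D.Idx K) ∈ F → ∀ t ∈ H274.OT.YS D K {a, D.neg a},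
        (m : GL D.Idx K) * t * (m : GL D.Idx K)⁻¹ ∈ H274.OT.YS D K {a, D.neg a} := by
      intro m hm t ht
      obtain ⟨h1, h2⟩ := (H274.OT.mem_YS hD hS).1 ht
      refine (H274.OT.mem_YS hD hS).2 ⟨H3.OT.conj_mem_tor hD m h1, fun s hs => ?_⟩
      have e1 : W hD m (D.neg a) = D.neg (W hD m a) := W_neg hD m h.aS.1
      have e2 := W_chi hD m h1 h.aS.1
      have e3 := W_chi hD m h1 h.naS.1
      rw [h2 a (Or.inl rfl)] at e2
      rw [h2 (D.neg a) (Or.inr rfl), e1] at e3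
      rcases h.W_a hm with h4 | h4
      · rw [h4] at e2 e3
        rcases hs with rfl | rfl
        · exact e2
        · exact e3
      · rw [h4] at e2 e3
        rw [H428.OT.neg_neg' hD h.aS.1] at e3
        rcases hs with rfl | rfl
        · exact e3
        · exact e2
    rw [mem_normalizer_iff]
    intro t
    refine ⟨key n hn t, fun ht => ?_⟩
    have h1 := key n⁻¹ (by rw [Subgroup.coe_inv]; exact inv_mem hn) _ ht
    have e : ((n⁻¹ : ↥(D.monomialSubgroup K)) : GL D.Idx K) * ((n : GL D.Idx K) * t * (n : GL D.Idx K)⁻¹) *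
        ((n⁻¹ : ↥(D.monomialSubgroup K)) : GL D.Idx K)⁻¹ = t := by
      rw [Subgroup.coe_inv]; group
    rwa [e] at h1

/-- powers in `V⟨x⟩` -/
theorem exists_pow {G : Type*} [Group G] {V : Subgroup G} {v x : G} (hv : v ∈ V) (hx : ∀ y ∈ V, x * y * x⁻¹ ∈ V)
    (k : ℕ) : ∃ w ∈ V, (v * x) ^ k = w * x ^ k := by
  have hx' : ∀ k : ℕ, ∀ y ∈ V, x ^ k * y * (x ^ k)⁻¹ ∈ V := by
    intro k
    induction k with
    | zero => intro y hy; simpa using hy
    | succ k ih =>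
      intro y hy
      have e : x ^ (k + 1) * y * (x ^ (k + 1))⁻¹ = x * (x ^ k * y * (x ^ k)⁻¹) * x⁻¹ := by
        rw [pow_succ']; group
      rw [e]
      exact hx _ (ih y hy)
  induction k with
  | zero => exact ⟨1, one_mem _, by rw [pow_zero, pow_zero, mul_one]⟩
  | succ k ih =>
    obtain ⟨w, hw, e⟩ := ih
    refine ⟨w * (x ^ k * v * (x ^ k)⁻¹), mul_mem hw (hx' k v hv), ?_⟩
    rw [pow_succ, e, pow_succ]
    group

/-- an involution of `C_F(z)` is `D_a`-conjugate to an element of `N(T)` -/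
theorem Mx.exists_mono (h : Mx D K p F a c d) {y : GL D.Idx K} (hy : y ∈ F)
    (hyz : y * hG h.hD a (-1 : K) = hG h.hD a (-1 : K) * y) (hy2 : y ^ 2 = 1) :
    ∃ l ∈ DS D K a, ∃ n : ↥(D.monomialSubgroup K), (n : GL D.Idx K) = l * y * l⁻¹ := by
  have hD := h.hD
  obtain ⟨l, hl, n, hn, e⟩ := h.cent_z hy hyz
  have hnN : (n : GL D.Idx K) ∈ normalizer (D.diagonalSubgroup K : Set (GL D.Idx K)) :=
    mem_normalizer_of_le fun t ht => H3.OT.conj_mem_tor hD n ht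
  have hyn : ∀ x ∈ DS D K a, y * x * y⁻¹ ∈ DS D K a := by
    intro x hx
    have h1 := (mem_normalizer_iff.1 (h.norm_DS ⟨hn, hnN⟩) x).1 hx
    have e1 : y * x * y⁻¹ = l * ((n : GL D.Idx K) * x * (n : GL D.Idx K)⁻¹) * l⁻¹ := by rw [e]; group
    rw [e1]
    exact mul_mem (mul_mem hl h1) (inv_mem hl)
  have hyn' : ∀ t ∈ D.diagonalSubgroup K, y * t * y⁻¹ ∈ DS D K a ⊔ D.diagonalSubgroup K := by
    intro t ht
    have h1 := H3.OT.conj_mem_tor hD n ht
    have e1 : y * t * y⁻¹ = l * ((n : GL D.Idx K) * t * (n : GL D.Idx K)⁻¹) * l⁻¹ := by rw [e]; group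
    rw [e1]
    exact mul_mem (mul_mem (mem_sup_left hl) (mem_sup_right h1)) (inv_mem (mem_sup_left hl))
  by_cases hc : ∀ x ∈ DS D K a, y * x = x * y
  · have h1 := norm_of_comm h.hy.mem h.q h.two h.sd hyn' hc
    obtain ⟨m, hm⟩ := h.mono hy h1
    exact ⟨1, one_mem _, m, by rw [hm]; group⟩
  · obtain ⟨l1, hl1, m, hm, -⟩ := P2 hD h.hy.mem h.q h.two h.sd (h.mb.le hy) hyn hyn'
      (fun x _ => by rw [hy2, one_mul, mul_one]) hc
    exact ⟨l1, hl1, m, hm⟩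

/-- the main step -/
theorem Mx.mem_M_of_comm (h : Mx D K p F a c d) {g : GL D.Idx K} (hg : g ∈ F)
    (hgz : g * hG h.hD a (-1 : K) * g⁻¹ * hG h.hD a (-1 : K) = hG h.hD a (-1 : K) * (g * hG h.hD a (-1 : K) * g⁻¹)) :
    g ∈ MF D K F := by
  have hD := h.hD
  have hq := h.q
  set z := hG h.hD a (-1 : K) with hz
  have hzF : z ∈ F := h.mb.tor h.z_mem
  have hy2 : (g * z * g⁻¹) ^ 2 = 1 := by rw [conj_pow, h.z_sq, mul_one, mul_inv_cancel]
  obtain ⟨l1, hl1, n, hn⟩ := h.exists_mono (mul_mem (mul_mem hg hzF) (inv_mem hg)) hgz hy2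
  have hl1F : l1 ∈ F := h.DS_le hl1
  -- `g₁ = l₁ g`
  obtain ⟨g1, hg1⟩ : ∃ g1, g1 = l1 * g := ⟨_, rfl⟩
  have hg1F : g1 ∈ F := by rw [hg1]; exact mul_mem hl1F hg
  have hn1 : (n : GL D.Idx K) = g1 * z * g1⁻¹ := by rw [hn, hg1]; group
  have hnF : (n : GL D.Idx K) ∈ F := by rw [hn1]; exact mul_mem (mul_mem hg1F hzF) (inv_mem hg1F)
  have hn2 : (n : GL D.Idx K) ^ 2 = 1 := by rw [hn1, conj_pow, h.z_sq, mul_one, mul_inv_cancel]
  suffices hmain : g1 ∈ MF D K F by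
    have e : g = l1⁻¹ * g1 := by rw [hg1]; group
    rw [e]
    exact mul_mem (inv_mem (h.DS_le_M hl1)) hmain
  obtain ⟨g0, hg0, hW, h0a, h0c⟩ := h.exists_fixed hnF hn2
  have hwin : ∀ s < D.nroots, |pr D g0 s| ≤ 2 := h.tri.win g0 hg0
  -- `g₁⁻¹ H g₁` normalises `Y`
  have hS : ({a, D.neg a} : Set ℕ) ⊆ {r | r < D.nroots} := by
    rintro r (rfl | rfl)
    · exact h.aS.1
    · exact h.naS.1
  have hperp : H274.OT.Perp D {a, D.neg a} g0 := by
    refine ⟨hg0, ?_⟩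
    rintro s (rfl | rfl)
    · exact h0a
    · rw [H460.OT.Short.pr_neg_right hD h.aS.1, h0a, neg_zero]
  have h1 : (Hr D K g0).map (MulAut.conj g1⁻¹).toMonoidHom ≤
      normalizer (H274.OT.YS D K {a, D.neg a} : Set (GL D.Idx K)) := by
    rw [H274.OT.Hr_le_iff hD]
    intro t ht
    have h2 : (n : GL D.Idx K) * hG hD g0 t = hG hD g0 t * n := W_comm_hG hD n hg0 hW ht
    have h3 : (g1⁻¹ * hG hD g0 t * g1⁻¹⁻¹) * z = z * (g1⁻¹ * hG hD g0 t * g1⁻¹⁻¹) := by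
      have e1 : (g1⁻¹ * hG hD g0 t * g1⁻¹⁻¹) * z = g1⁻¹ * (hG hD g0 t * (g1 * z * g1⁻¹)) * g1 := by group
      have e2 : z * (g1⁻¹ * hG hD g0 t * g1⁻¹⁻¹) = g1⁻¹ * ((g1 * z * g1⁻¹) * hG hD g0 t) * g1 := by group
      rw [e1, e2, ← hn1, h2]
    obtain ⟨l, hl, m, hm, e⟩ := h.cent_z (mul_mem (mul_mem (inv_mem hg1F) (h.mb.tor (hG_mem hD hg0 ht)))
      (inv_mem (inv_mem hg1F))) h3
    rw [e]
    exact h.norm_YS hl hm
  have h2 := H274.OT.Hr_conj_le_centralizer h.hy (H274.OT.YS_le _) hg0 hwin h1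
  rw [H274.OT.Hr_le_iff hD] at h2
  -- a parameter
  obtain ⟨γ, hγ, hγ2⟩ := H650.OT.exists_sq_ne hq
  have hγ1 : γ ≠ 1 := by
    rintro rfl
    exact hγ2 (one_zpow _)
  have hT0 := hG_mem hD hg0 hγ
  have hchi : chi D K (hG hD g0 γ) c = γ := by
    rw [chi_hG hD hg0 h.cS.1 hγ, h0c, zpow_one]
  have h3 : ∀ y ∈ H274.OT.YS D K {a, D.neg a}, g1 * y * g1⁻¹ ∈ MF D K F := by
    intro y hy
    refine h.cent_le hT0 (h.not_central_of hT0 (by rw [hchi]; exact hγ1))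
      (mul_mem (mul_mem hg1F (h.mb.tor hy.1)) (inv_mem hg1F)) ?_
    have h4 := mem_centralizer_iff.1 (h2 γ hγ) y hy
    have e1 : g1 * y * g1⁻¹ * hG hD g0 γ = g1 * (y * (g1⁻¹ * hG hD g0 γ * g1⁻¹⁻¹)) * g1⁻¹ := by group
    have e2 : hG hD g0 γ * (g1 * y * g1⁻¹) = g1 * ((g1⁻¹ * hG hD g0 γ * g1⁻¹⁻¹) * y) * g1⁻¹ := by group
    rw [e1, e2, h4]
  have h4 : (Hr D K g0).map (MulAut.conj g1).toMonoidHom ≤ MF D K F := by
    rw [H274.OT.Hr_le_iff hD]
    intro t ht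
    exact h3 _ (H274.OT.hG_mem_YS hD hS hperp ht)
  have h5 := H274.OT.comm_Y0_of_le_MF h.hy h.mb.le hg0 hwin h4
  rw [H274.OT.Hr_le_iff hD] at h4 h5
  -- the element `X = g₁ h g₁⁻¹`
  obtain ⟨v, hv, l, hl, n2, hn2F, hX⟩ := h.mem_M (h4 γ hγ)
  have hn2c : (n2 : GL D.Idx K) ∈ centralizer (H274.OT.YS D K (SF D K F) : Set (GL D.Idx K)) := by
    rw [← H274.OT.Y0_eq]
    have e : (n2 : GL D.Idx K) = l⁻¹ * (v⁻¹ * (g1 * hG hD g0 γ * g1⁻¹)) := by rw [hX]; group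
    rw [e]
    exact mul_mem (inv_mem (H274.OT.DF_le_centralizer_Y0 F (h.DS_le_DF hl)))
      (mul_mem (inv_mem (H274.OT.DF_le_centralizer_Y0 F (h.V_le_DF hv))) (h5 γ hγ))
  have hx : l * n2 ∈ DS D K a ⊔ D.diagonalSubgroup K := by
    refine mul_mem (mem_sup_left hl) (h.mem_LT_of_fix hn2F fun r hr => ?_)
    have h6 := H274.OT.perm_fix hD hq (fun r hr => hr.1) n2 hn2c (r := ⟨r, hr.1⟩) hr
    rw [W_of hD n2 hr.1, h6]
  obtain ⟨x, hxe⟩ : ∃ x, x = l * (n2 : GL D.Idx K) := ⟨_, rfl⟩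
  rw [← hxe] at hx
  rw [mul_assoc v l, ← hxe] at hX
  have hxM : x ∈ MF D K F := by
    have e : x = v⁻¹ * (g1 * hG hD g0 γ * g1⁻¹) := by rw [hX]; group
    rw [e]
    exact mul_mem (inv_mem (h.V_le_M hv)) (h4 γ hγ)
  have hxV : ∀ y ∈ VV D K c d, x * y * x⁻¹ ∈ VV D K c d := fun y hy => (mem_normalizer_iff.1 (h.M_le_norm hxM) y).1 hy
  have hxq : x ^ (Fintype.card K - 1) = 1 := by
    obtain ⟨w, hw, e⟩ := exists_pow hv hxV (Fintype.card K - 1)
    rw [← hX, conj_pow, tor_pow hD hT0, mul_one, mul_inv_cancel] at e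
    have e2 : x ^ (Fintype.card K - 1) = w⁻¹ := eq_inv_of_mul_eq_one_right e.symm
    have e3 := h.V_disj (inv_mem hw) (by rw [← e2]; exact pow_mem hx _)
    rw [e2, e3]
  rcases P1 hD h.aS.1 (by omega) h.two h.odd hx (fun y _ => by rw [hxq, one_mul, mul_one]) with h6 | h6
  · obtain ⟨l2, hl2, hs⟩ := h6
    have hl2V := (mem_normalizer_iff.1 (h.tri.DS_le_norm hD hl2) v).1 hv
    have h7 : l2 * g1 ∈ MF D K F := by
      refine h.not_conj (mul_mem (h.DS_le hl2) hg1F) hT0 (by rw [hchi]; exact hγ1) hs hl2V ?_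
      have e : l2 * g1 * hG hD g0 γ * (l2 * g1)⁻¹ = l2 * (g1 * hG hD g0 γ * g1⁻¹) * l2⁻¹ := by group
      rw [e, hX]
      group
    have e : g1 = l2⁻¹ * (l2 * g1) := by group
    rw [e]
    exact mul_mem (inv_mem (h.DS_le_M hl2)) h7
  · obtain ⟨t₀, ht₀, ht₀', htc⟩ := exists_tor (K := K) hD h.hy.mem h.aS.1 hq
    have h7 : x ^ 2 ∈ D.diagonalSubgroup K := mem_tor_of_comm hD h.aS.1
      (ph_injective hD h.aS.1 (by omega) h.two h.odd) (pow_mem hx 2) ht₀ htc (h6 t₀ ht₀')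
    obtain ⟨w, hw, e⟩ := exists_pow hv hxV 2
    refine h.not_conj hg1F (pow_mem hT0 2) ?_ h7 hw ?_
    · rw [chi_pow hD hT0, hchi]
      intro h8
      exact hγ2 (by exact_mod_cast h8)
    · rw [← conj_pow, hX, e]

/-- **`z` is isolated.** -/
theorem Mx.iso (h : Mx D K p F a c d) {g : GL D.Idx K} (hg : g ∈ F)
    (hc : Commute (hG h.hD a (-1 : K)) (g * hG h.hD a (-1 : K) * g⁻¹)) :
    g * hG h.hD a (-1 : K) * g⁻¹ = hG h.hD a (-1 : K) := h.iso_M (h.mem_M_of_comm hg hc.symm) hc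

theorem Mx.false_of (h : Mx D K p F a c d) : False := by
  have hD := h.hD
  have hfin : Finite (GL D.Idx K) := inferInstance
  have hzF : hG h.hD a (-1 : K) ∈ F := h.mb.tor h.z_mem
  have hchi : chi D K (hG h.hD a (-1 : K)) c ≠ 1 := by
    rw [h.z_chi h.cS.1, h.tri.ac, zpow_one]
    exact h.neg_one_ne_one
  refine H249.OT.false_of_isolated (G := F) (T := (D.diagonalSubgroup K).subgroupOf F)
    (L := (DS D K a).subgroupOf F) (M := (MF D K F).subgroupOf F) (z := ⟨hG h.hD a (-1 : K), hzF⟩)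
    ?_ ?_ ?_ ?_ ?_ ?_ ?_ ?_
  · intro x hx y hy
    exact Subtype.ext (H460.OT.diag_comm hD hx hy)
  · intro e
    have h1 := h.mb.MF_lt h.hy
    exact absurd (subgroupOf_eq_top.1 e) (not_le_of_gt h1)
  · intro H hTH hH x hx
    have h1 : D.diagonalSubgroup K ≤ H.map F.subtype := fun t ht =>
      ⟨⟨t, h.mb.tor ht⟩, hTH (mem_subgroupOf.2 ht), rfl⟩
    have h2 : H.map F.subtype < F := by
      refine lt_of_le_of_ne ?_ fun e => hH ?_
      · rintro _ ⟨y, -, rfl⟩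
        exact y.2
      · rw [eq_top_iff]
        intro y _
        have h3 : (y : GL D.Idx K) ∈ H.map F.subtype := by rw [e]; exact y.2
        obtain ⟨y', hy', e'⟩ := h3
        rwa [← Subtype.ext e']
    rw [mem_subgroupOf]
    exact h.mb.le_MF_of_lt h1 h2 ⟨x, hx, rfl⟩
  · intro g hg
    rw [mem_subgroupOf]
    exact h.cent_le h.z_mem (h.not_central_of h.z_mem hchi) g.2 (congrArg Subtype.val hg)
  · apply map_injective F.subtype_injective
    rw [map_commutator, map_subgroupOf_eq_of_le h.DS_le]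
    exact DS_perfect hD h.aS.1 (by have := h.q; omega)
  · rw [mem_subgroupOf]
    exact hG_mem_DS hD h.aS.1 _ neg_one_ne
  · refine orderOf_eq_prime (Subtype.ext h.z_sq) fun e => hchi ?_
    have e1 : hG h.hD a (-1 : K) = 1 := congrArg Subtype.val e
    rw [e1, chi_one]
  · intro g hg
    refine Subtype.ext (h.iso g.2 ?_)
    exact congrArg Subtype.val hg

/-- **The mixed case.** -/
theorem mix (hy : Hyp K p D) (h4 : D = chevF4) (F : Subgroup (GL D.Idx K)) (hF : MinBad D K F) (a c d : ℕ)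
    (h1 : pr D a c = 1) (h2 : pr D c a = 1) (h3 : D.chainRoot (D.neg a) c 1 = some d)
    (hS : SF D K F = {a, D.neg a, c, d}) (hc : D.neg c ∉ SF D K F) (hd : D.neg d ∉ SF D K F)
    (hns : ∀ r ∈ SF D K F, ¬ IsLong D r) : False := by
  have hD := hy.inList
  have haS : a ∈ SF D K F := by rw [hS]; simp
  have hnaS : D.neg a ∈ SF D K F := by rw [hS]; simp
  have hcS : c ∈ SF D K F := by rw [hS]; simp
  have hdS : d ∈ SF D K F := by rw [hS]; simp
  have hsum : pr D (D.neg a) d = 1 ∧ pr D c d = 1 ∧ pr D d (D.neg a) = 1 ∧ pr D d c = 1 := by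
    have e1 : pr D (D.neg a) c = -1 := by rw [H460.OT.Short.pr_neg_left hD haS.1, h1]
    have e2 : pr D c (D.neg a) = -1 := by rw [H460.OT.Short.pr_neg_right hD haS.1, h2]
    have n1 := hns _ hnaS
    have n2 := hns _ hcS
    have n3 := hns _ hdS
    clear hF hS hc hd hns haS hnaS hcS hdS hy h1 h2 hD
    subst h4
    obtain ⟨-, -, h5, h6, h7, h8⟩ := H460.OT.Short.par_sum n1 n2 n3 e1 e2 h3
    exact ⟨h5, h6, h7, h8⟩
  obtain ⟨e1, e2, e3, e4⟩ := hsum
  rw [H460.OT.Short.pr_neg_left hD haS.1] at e1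
  rw [H460.OT.Short.pr_neg_right hD haS.1] at e3
  obtain ⟨-, -, -, hrt⟩ := RootVec.chainRoot_rt (RootVecTab.checked_of_mem hD) (le_refl 1) h3
  have htri : Tri D a c d :=
    { win := by
        intro r hr s hs
        subst h4
        exact H274.OT.window_F4 hr hs
      ha := haS.1
      hc := hcS.1
      hd := hdS.1
      rt := fun i => by
        rw [hrt, rt_neg hD haS.1]
        push_cast
        ring
      ac := h1
      ca := h2
      ad := by linarith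
      da := by linarith
      cd := e2
      dc := e4 }
  exact Mx.false_of (p := p) (F := F) (a := a) (c := c) (d := d)
    ⟨hy, h4, hF, htri, hS, hc, hd, hns a haS, hns c hcS⟩

end Cfsg.Agent.H175.OT.Mix
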