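import Cfsg.Agent.S0001
import Cfsg.Agent.S1225
import Cfsg.Agent.S1911
import Cfsg.Agent.H252.ZNCtx

/-!
# S2539, part 5, unipotent case: the group theory (helper175)

`UCtx T U M` : `Y` finite, `T` abelian self-centralising, `M = U N(T)`, `U` a normal subgroup of `M` of odd order
prime to `|T|`, every proper overgroup of `T` lies in `M`.

* `UCtx.mem_of_conj_tor`, `UCtx.mem_of_conj` : `T ∩ T^f ≤ Z(Y)` for `f ∉ M`;
* `UCtx.Bad f b` : `f ∉ M`, `b ∈ M ∩ T^f` an involution modulo `Z(Y)`; `Bad.exists_norm` : `b` may be moved to `N(T)`;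
* `UCtx.exists_conj_norm` : subgroups of `M` of order prime to `|U|` are `U`-conjugate into `N(T)`;
* `UCtx.false_of_two` : no bad pairs and two non-conjugate involutions of `T / Z(Y)`: contradiction.
-/

set_option autoImplicit false

namespace Cfsg.Agent.H175.OT

open Subgroup

universe u

variable {Y : Type u} [Group Y]

/-- The unipotent context. -/
structure UCtx (T U M : Subgroup Y) : Prop where
  comm : ∀ s ∈ T, ∀ t ∈ T, s * t = t * s
  TM : T ≤ M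
  UM : U ≤ M
  NM : normalizer (T : Set Y) ≤ M
  dec : ∀ m ∈ M, ∃ u ∈ U, ∃ n ∈ normalizer (T : Set Y), m = u * n
  nU : M ≤ normalizer (U : Set Y)
  nU' : normalizer (U : Set Y) ≤ M
  ovr : ∀ H : Subgroup Y, T ≤ H → H ≠ ⊤ → H ≤ M
  ne : M ≠ ⊤
  nM : normalizer (M : Set Y) ≤ M
  cT : ∀ x : Y, (∀ t ∈ T, x * t = t * x) → x ∈ T
  cop : (Nat.card U).Coprime (Nat.card T)
  odd : Odd (Nat.card U)
  sol : Group.IsSolvable U

namespace UCtx

variable {T U M : Subgroup Y}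

theorem conj_mem_U (h : UCtx T U M) {m u : Y} (hm : m ∈ M) (hu : u ∈ U) : m * u * m⁻¹ ∈ U :=
  (mem_normalizer_iff.1 (h.nU hm) u).1 hu

theorem center_le (h : UCtx T U M) : center Y ≤ T := fun x hx =>
  h.cT x fun t _ => (mem_center_iff.1 hx t).symm

theorem inf_eq_bot [Finite Y] (h : UCtx T U M) : U ⊓ T = ⊥ := by
  rw [eq_bot_iff]
  rintro x ⟨hxU, hxT⟩
  have h1 : orderOf x ∣ Nat.card U := by
    have := orderOf_dvd_natCard (⟨x, hxU⟩ : U)
    rwa [Subgroup.orderOf_mk] at this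
  have h2 : orderOf x ∣ Nat.card T := by
    have := orderOf_dvd_natCard (⟨x, hxT⟩ : T)
    rwa [Subgroup.orderOf_mk] at this
  have h3 : orderOf x ∣ 1 := by
    rw [← Nat.Coprime.gcd_eq_one h.cop]
    exact Nat.dvd_gcd h1 h2
  rw [mem_bot]
  exact orderOf_eq_one_iff.1 (Nat.dvd_one.1 h3)

theorem eq_one_of_mem [Finite Y] (h : UCtx T U M) {x : Y} (hU : x ∈ U) (hT : x ∈ T) : x = 1 := by
  have h1 : x ∈ U ⊓ T := ⟨hU, hT⟩
  rwa [h.inf_eq_bot, mem_bot] at h1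

theorem eq_one_of_mem_norm [Finite Y] (h : UCtx T U M) {x : Y} (hU : x ∈ U)
    (hN : x ∈ normalizer (T : Set Y)) : x = 1 := by
  refine h.eq_one_of_mem hU (h.cT x fun t ht => ?_)
  have h1 : x * t * x⁻¹ * t⁻¹ ∈ T := mul_mem ((mem_normalizer_iff.1 hN t).1 ht) (inv_mem ht)
  have h2 : x * t * x⁻¹ * t⁻¹ ∈ U := by
    have e : x * t * x⁻¹ * t⁻¹ = x * (t * x⁻¹ * t⁻¹) := by group
    rw [e]
    exact mul_mem hU (h.conj_mem_U (h.TM ht) (inv_mem hU))
  have h3 := h.eq_one_of_mem h2 h1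
  have h4 : x * t * x⁻¹ = t := by
    rw [mul_inv_eq_one] at h3
    exact h3
  rw [mul_inv_eq_iff_eq_mul] at h4
  exact h4

/-- `T^f ≤ M` only for `f ∈ M`. -/
theorem mem_of_conj_tor [Finite Y] (h : UCtx T U M) {f : Y} (hf : ∀ t ∈ T, f * t * f⁻¹ ∈ M) : f ∈ M := by
  have h1 : T ≤ M.map (MulAut.conj f⁻¹).toMonoidHom := by
    intro t ht
    refine ⟨f * t * f⁻¹, hf t ht, ?_⟩
    change f⁻¹ * (f * t * f⁻¹) * f⁻¹⁻¹ = t
    group
  have hc : Nat.card (M.map (MulAut.conj f⁻¹).toMonoidHom) = Nat.card M :=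
    Nat.card_congr (M.equivMapOfInjective _ (MulAut.conj f⁻¹).injective).symm.toEquiv
  have h2 : M.map (MulAut.conj f⁻¹).toMonoidHom ≠ ⊤ := by
    intro e
    rw [e] at hc
    exact h.ne (Subgroup.eq_top_of_card_eq M (by rw [← hc, Nat.card_congr (Subgroup.topEquiv (G := Y)).toEquiv]))
  have h3 := h.ovr _ h1 h2
  have h4 : M.map (MulAut.conj f⁻¹).toMonoidHom = M := Subgroup.eq_of_le_of_card_ge h3 hc.ge
  refine h.nM ?_
  rw [mem_normalizer_iff]
  intro x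
  constructor
  · intro hx
    rw [← h4] at hx
    obtain ⟨y, hy, e⟩ := hx
    change f⁻¹ * y * f⁻¹⁻¹ = x at e
    rw [← e]
    have e2 : f * (f⁻¹ * y * f⁻¹⁻¹) * f⁻¹ = y := by group
    rw [e2]
    exact hy
  · intro hx
    rw [← h4]
    refine ⟨f * x * f⁻¹, hx, ?_⟩
    change f⁻¹ * (f * x * f⁻¹) * f⁻¹⁻¹ = x
    group

/-- the centraliser of a non-central element of `T` lies in `M` -/
theorem cent_le (h : UCtx T U M) {t : Y} (ht : t ∈ T) (htZ : t ∉ center Y) {x : Y} (hx : x * t = t * x) :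
    x ∈ M := by
  have h1 : T ≤ centralizer ({t} : Set Y) := fun s hs => by
    rw [mem_centralizer_singleton_iff]
    exact h.comm s hs t ht
  refine h.ovr _ h1 (fun e => htZ ?_) (mem_centralizer_singleton_iff.2 hx)
  rw [mem_center_iff]
  intro y
  have h2 : y ∈ centralizer ({t} : Set Y) := by rw [e]; exact mem_top y
  exact mem_centralizer_singleton_iff.1 h2

/-- `T ∩ T^f ≤ Z(Y)` for `f ∉ M`. -/
theorem mem_of_conj [Finite Y] (h : UCtx T U M) {f t : Y} (ht : t ∈ T) (htZ : t ∉ center Y)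
    (hf : f * t * f⁻¹ ∈ T) : f ∈ M := by
  refine h.mem_of_conj_tor fun s hs => h.cent_le hf (fun h1 => htZ ?_) ?_
  · have h2 : f⁻¹ * (f * t * f⁻¹) * f⁻¹⁻¹ ∈ center Y := Normal.conj_mem inferInstance _ h1 _
    have e : f⁻¹ * (f * t * f⁻¹) * f⁻¹⁻¹ = t := by group
    rwa [e] at h2
  · have h3 := h.comm s hs t ht
    calc f * s * f⁻¹ * (f * t * f⁻¹) = f * (s * t) * f⁻¹ := by group
      _ = f * (t * s) * f⁻¹ := by rw [h3]
      _ = f * t * f⁻¹ * (f * s * f⁻¹) := by group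

/-- A bad pair. -/
structure Bad (T M : Subgroup Y) (f b : Y) : Prop where
  nf : f ∉ M
  mem : b ∈ M
  tor : f * b * f⁻¹ ∈ T
  ne : b ∉ center Y
  sq : b ^ 2 ∈ center Y

/-- an element `b = u₀ n` of `M`, `n ∈ N(T)`, with central square is `U`-conjugate to `n` -/
theorem exists_conj [Finite Y] (h : UCtx T U M) {u₀ n : Y} (hu : u₀ ∈ U) (hn : n ∈ normalizer (T : Set Y))
    (h2 : (u₀ * n) ^ 2 ∈ center Y) : ∃ u ∈ U, u * (u₀ * n) * u⁻¹ = n := by
  classical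
  have hnM : n ∈ M := h.NM hn
  set b := u₀ * n with hb
  have hbM : b ∈ M := mul_mem (h.UM hu) hnM
  have hbT : b ^ 2 ∈ T := h.center_le h2
  -- `b u₀ b⁻¹ u₀ = 1`
  have k1 : u₀ * (n * u₀ * n⁻¹) = 1 := by
    refine h.eq_one_of_mem_norm (mul_mem hu (h.conj_mem_U hnM hu)) ?_
    have e : u₀ * (n * u₀ * n⁻¹) = b ^ 2 * (n ^ 2)⁻¹ := by
      rw [hb, pow_two, pow_two]
      group
    rw [e]
    exact mul_mem (le_normalizer hbT) (inv_mem (pow_mem hn 2))
  have k2 : b * u₀ * b⁻¹ * u₀ = 1 := by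
    have e : b * u₀ * b⁻¹ * u₀ = u₀ * (n * u₀ * n⁻¹) := by
      rw [hb]
      group
    rw [e, k1]
  let τ : U → U := fun v => ⟨b * v * b⁻¹ * u₀, mul_mem (h.conj_mem_U hbM v.2) hu⟩
  have hτ : Function.Involutive τ := by
    intro v
    apply Subtype.ext
    change b * (b * v * b⁻¹ * u₀) * b⁻¹ * u₀ = v
    have e : b * (b * v * b⁻¹ * u₀) * b⁻¹ * u₀ = b ^ 2 * v * (b ^ 2)⁻¹ * (b * u₀ * b⁻¹ * u₀) := by
      rw [pow_two]
      group
    rw [e, k2, mul_one, ← mem_center_iff.1 h2 (v : Y), mul_inv_cancel_right]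
  have hfix : ∃ v : U, τ v = v := by
    have := Fintype.ofFinite U
    have f2 : Fact (Nat.Prime 2) := ⟨Nat.prime_two⟩
    have h3 : ¬ 2 ∣ Fintype.card U := by
      rw [← Nat.card_eq_fintype_card, ← even_iff_two_dvd, Nat.not_even_iff_odd]
      exact h.odd
    obtain ⟨v, hv⟩ := Equiv.Perm.exists_fixed_point_of_prime (p := 2) (n := 1) h3 (σ := hτ.toPerm) (by
      ext v
      rw [pow_one, pow_two, Equiv.Perm.mul_apply]
      exact congrArg Subtype.val (hτ v))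
    exact ⟨v, hv⟩
  obtain ⟨v, hv⟩ := hfix
  have hv' : b * v * b⁻¹ * u₀ = v := congrArg Subtype.val hv
  refine ⟨(v : Y)⁻¹, inv_mem v.2, ?_⟩
  have e : (v : Y)⁻¹ * b * (v : Y)⁻¹⁻¹ = (v : Y)⁻¹ * (b * v * b⁻¹ * u₀) * u₀⁻¹ * b := by group
  rw [e, hv', hb]
  group

/-- A bad pair may be moved to one with `b ∈ N(T)`. -/
theorem Bad.exists_norm [Finite Y] (h : UCtx T U M) {f b : Y} (hb : Bad T M f b) :
    ∃ f' b', Bad T M f' b' ∧ b' ∈ normalizer (T : Set Y) := by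
  obtain ⟨u₀, hu₀, n, hn, e⟩ := h.dec b hb.mem
  obtain ⟨u, hu, e2⟩ := h.exists_conj hu₀ hn (e ▸ hb.sq)
  rw [← e] at e2
  refine ⟨f * u⁻¹, n, ⟨?_, h.NM hn, ?_, ?_, ?_⟩, hn⟩
  · intro h1
    apply hb.nf
    have h3 := mul_mem h1 (h.UM hu)
    rwa [inv_mul_cancel_right] at h3
  · rw [← e2]
    have e3 : f * u⁻¹ * (u * b * u⁻¹) * (f * u⁻¹)⁻¹ = f * b * f⁻¹ := by group
    rw [e3]
    exact hb.tor
  · rw [← e2]
    intro h1
    apply hb.ne
    have h3 : u⁻¹ * (u * b * u⁻¹) * u⁻¹⁻¹ ∈ center Y := Normal.conj_mem inferInstance _ h1 _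
    have e3 : u⁻¹ * (u * b * u⁻¹) * u⁻¹⁻¹ = b := by group
    rwa [e3] at h3
  · rw [← e2]
    have e3 : (u * b * u⁻¹) ^ 2 = u * b ^ 2 * u⁻¹ := by
      rw [pow_two, pow_two]
      group
    rw [e3]
    exact Normal.conj_mem inferInstance _ hb.sq _

/-- Solvable subgroups of `M` of order prime to `|U|` are `U`-conjugate to subgroups of `N(T)`. -/
theorem exists_conj_norm [Finite Y] (h : UCtx T U M) {H : Subgroup Y} (hH : H ≤ M)
    (hc : (Nat.card U).Coprime (Nat.card H)) : ∃ u ∈ U, ∀ x ∈ H, u * x * u⁻¹ ∈ normalizer (T : Set Y) := by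
  classical
  have hnorm : ∀ x ∈ U ⊔ H, x ∈ M := fun x hx => (sup_le h.UM hH) hx
  set L : Subgroup Y := U ⊔ H with hL
  have hUL : U ≤ L := le_sup_left
  have hHL : H ≤ L := le_sup_right
  have hnU : (U.subgroupOf L).Normal := by
    refine ⟨fun x hx g => ?_⟩
    rw [mem_subgroupOf] at hx ⊢
    exact h.conj_mem_U (hnorm g g.2) hx
  have hUH : U ⊓ H = ⊥ := (disjoint_of_coprime_natCard hc).eq_bot
  have hcH : Nat.card (H.subgroupOf L) = Nat.card H :=
    Nat.card_congr (subgroupOfEquivOfLe hHL).toEquiv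
  have hcU : Nat.card (U.subgroupOf L) = Nat.card U :=
    Nat.card_congr (subgroupOfEquivOfLe hUL).toEquiv
  have hmemL : ∀ x ∈ L, ∃ u ∈ U, ∃ y ∈ H, x = u * y := by
    intro x hx
    have h1 : x ∈ ((U ⊔ H : Subgroup Y) : Set Y) := hx
    rw [coe_mul_of_right_le_normalizer_left _ _ (hH.trans h.nU), Set.mem_mul] at h1
    obtain ⟨u, hu, y, hy, e⟩ := h1
    exact ⟨u, hu, y, hy, e.symm⟩
  have hc1 : IsComplement' (U.subgroupOf L) (H.subgroupOf L) := by
    refine isComplement'_of_disjoint_and_mul_eq_univ ?_ ?_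
    · rw [disjoint_iff, eq_bot_iff]
      rintro ⟨x, hx⟩ ⟨h1, h2⟩
      have h3 : x ∈ U ⊓ H := ⟨h1, h2⟩
      rw [hUH, mem_bot] at h3
      exact Subtype.ext h3
    · rw [Set.eq_univ_iff_forall]
      rintro ⟨x, hx⟩
      obtain ⟨u, hu, y, hy, e⟩ := hmemL x hx
      exact ⟨⟨u, hUL hu⟩, hu, ⟨y, hHL hy⟩, hy, Subtype.ext e.symm⟩
  have hc2 : IsComplement' (U.subgroupOf L) ((L ⊓ normalizer (T : Set Y)).subgroupOf L) := by
    refine isComplement'_of_disjoint_and_mul_eq_univ ?_ ?_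
    · rw [disjoint_iff, eq_bot_iff]
      rintro ⟨x, hx⟩ ⟨h1, h2⟩
      exact Subtype.ext (h.eq_one_of_mem_norm h1 (mem_inf.1 (mem_subgroupOf.1 h2)).2)
    · rw [Set.eq_univ_iff_forall]
      rintro ⟨x, hx⟩
      obtain ⟨u, hu, n, hn, e⟩ := h.dec x (hnorm x hx)
      have hnL : n ∈ L := by
        have e2 : n = u⁻¹ * x := by rw [e]; group
        rw [e2]
        exact mul_mem (inv_mem (hUL hu)) hx
      exact ⟨⟨u, hUL hu⟩, hu, ⟨n, hnL⟩, ⟨hnL, hn⟩, Subtype.ext e.symm⟩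
  have hidx : (U.subgroupOf L).index = Nat.card H := by
    rw [← hcH, hc1.symm.index_eq_card]
  have hsol : Group.IsSolvable (U.subgroupOf L) := by
    have := h.sol
    exact Group.isSolvable_of_isSolvable_injective (f := ((subgroupOfEquivOfLe hUL).toMonoidHom)) (subgroupOfEquivOfLe hUL).injective
  obtain ⟨g, hg⟩ := Cfsg.Agent.S0001.result (U.subgroupOf L) (by rw [hidx, hcU]; exact hc) (Or.inl hsol)
    (H.subgroupOf L) ((L ⊓ normalizer (T : Set Y)).subgroupOf L) hc1 hc2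
  obtain ⟨u, hu, y, hy, e⟩ := hmemL g g.2
  refine ⟨u, hu, fun x hx => ?_⟩
  have h1 : y⁻¹ * x * y ∈ H := mul_mem (mul_mem (inv_mem hy) hx) hy
  have h2 : (g * (⟨y⁻¹ * x * y, hHL h1⟩ : L) * g⁻¹ : L) ∈ (L ⊓ normalizer (T : Set Y)).subgroupOf L := by
    rw [← hg, mem_pointwise_smul_iff_inv_smul_mem, ← map_inv, MulAut.smul_def, MulAut.conj_apply]
    rw [mem_subgroupOf]
    have e2 : ((g⁻¹ * (g * (⟨y⁻¹ * x * y, hHL h1⟩ : L) * g⁻¹) * g⁻¹⁻¹ : L) : Y) = y⁻¹ * x * y := by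
      push_cast
      group
    rw [e2]
    exact h1
  have h3 := (mem_inf.1 (mem_subgroupOf.1 h2)).2
  have e3 : ((g * (⟨y⁻¹ * x * y, hHL h1⟩ : L) * g⁻¹ : L) : Y) = u * x * u⁻¹ := by
    push_cast
    rw [e]
    group
  rwa [e3] at h3

/-- the `2`-part of `T` modulo the centre of `Y` -/
def twoPart (h : UCtx T U M) : Subgroup Y where
  carrier := {t | t ∈ T ∧ ∃ k : ℕ, t ^ 2 ^ k ∈ center Y}
  one_mem' := ⟨one_mem _, 0, by rw [pow_zero, pow_one]; exact one_mem _⟩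
  mul_mem' := by
    rintro s t ⟨hs, k, hk⟩ ⟨ht, l, hl⟩
    refine ⟨mul_mem hs ht, k + l, ?_⟩
    have hc : Commute s t := h.comm s hs t ht
    rw [hc.mul_pow]
    refine mul_mem ?_ ?_
    · rw [pow_add, pow_mul]
      exact pow_mem hk _
    · rw [add_comm, pow_add, pow_mul]
      exact pow_mem hl _
  inv_mem' := by
    rintro s ⟨hs, k, hk⟩
    refine ⟨inv_mem hs, k, ?_⟩
    rw [inv_pow]
    exact inv_mem hk

theorem mem_twoPart (h : UCtx T U M) {t : Y} : t ∈ h.twoPart ↔ t ∈ T ∧ ∃ k : ℕ, t ^ 2 ^ k ∈ center Y := Iff.rfl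

theorem conj_twoPart (h : UCtx T U M) {n t : Y} (hn : n ∈ normalizer (T : Set Y)) (ht : t ∈ h.twoPart) :
    n * t * n⁻¹ ∈ h.twoPart := by
  obtain ⟨ht, k, hk⟩ := ht
  refine ⟨(mem_normalizer_iff.1 hn t).1 ht, k, ?_⟩
  rw [conj_pow]
  exact Normal.conj_mem inferInstance _ hk _

/-- the normal subgroup `Q = U T₂` of `M` -/
def Q (h : UCtx T U M) : Subgroup Y := U ⊔ h.twoPart

theorem mem_Q (h : UCtx T U M) {x : Y} (hx : x ∈ h.Q) : ∃ u ∈ U, ∃ t ∈ h.twoPart, x = u * t := by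
  have h1 : x ∈ ((U ⊔ h.twoPart : Subgroup Y) : Set Y) := hx
  have h2 : h.twoPart ≤ normalizer (U : Set Y) := fun t ht => h.nU (h.TM (h.mem_twoPart.1 ht).1)
  rw [coe_mul_of_right_le_normalizer_left _ _ h2, Set.mem_mul] at h1
  obtain ⟨u, hu, y, hy, e⟩ := h1
  exact ⟨u, hu, y, hy, e.symm⟩

theorem Q_le (h : UCtx T U M) : h.Q ≤ M := sup_le h.UM fun _ ht => h.TM (h.mem_twoPart.1 ht).1

theorem center_le_Q (h : UCtx T U M) : center Y ≤ h.Q := fun x hx =>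
  (le_sup_right : h.twoPart ≤ h.Q) ⟨h.center_le hx, 0, by rwa [pow_zero, pow_one]⟩

theorem le_norm_Q (h : UCtx T U M) : M ≤ normalizer (h.Q : Set Y) := by
  have key : ∀ m ∈ M, ∀ x ∈ h.Q, m * x * m⁻¹ ∈ h.Q := by
    intro m hm x hx
    obtain ⟨v, hv, n, hn, rfl⟩ := h.dec m hm
    obtain ⟨u, hu, t, ht, rfl⟩ := h.mem_Q hx
    have hUQ : U ≤ h.Q := le_sup_left
    have e : v * n * (u * t) * (v * n)⁻¹ = v * (n * u * n⁻¹) * (n * t * n⁻¹) * v⁻¹ := by group
    rw [e]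
    exact mul_mem (mul_mem (mul_mem (hUQ hv) (hUQ (h.conj_mem_U (h.NM hn) hu)))
      ((le_sup_right : h.twoPart ≤ h.Q) (h.conj_twoPart hn ht))) (inv_mem (hUQ hv))
  intro m hm
  rw [mem_normalizer_iff]
  intro x
  refine ⟨key m hm x, fun hx => ?_⟩
  have h1 := key m⁻¹ (inv_mem hm) _ hx
  have e : m⁻¹ * (m * x * m⁻¹) * m⁻¹⁻¹ = x := by group
  rwa [e] at h1

/-- `U` is the set of the elements of `Q` of order dividing `|U|` -/
theorem mem_U_of_pow [Finite Y] (h : UCtx T U M) {x : Y} (hx : x ∈ h.Q) (hp : x ^ Nat.card U = 1) : x ∈ U := by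
  obtain ⟨u, hu, t, ht, rfl⟩ := h.mem_Q hx
  have key : ∀ k : ℕ, ∃ v ∈ U, (u * t) ^ k = v * t ^ k := by
    intro k
    induction k with
    | zero => exact ⟨1, one_mem _, by simp⟩
    | succ k ih =>
      obtain ⟨v, hv, e⟩ := ih
      refine ⟨v * (t ^ k * u * (t ^ k)⁻¹), mul_mem hv (h.conj_mem_U (pow_mem (h.TM ht.1) k) hu), ?_⟩
      rw [pow_succ, e, pow_succ]
      group
  obtain ⟨v, hv, e⟩ := key (Nat.card U)
  rw [hp] at e
  have h1 : t ^ Nat.card U = 1 := by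
    refine h.eq_one_of_mem ?_ (pow_mem ht.1 _)
    have h2 : t ^ Nat.card U = v⁻¹ := by
      rw [eq_comm, inv_eq_iff_mul_eq_one]
      exact e.symm
    rw [h2]
    exact inv_mem hv
  have h3 : orderOf t ∣ Nat.card T := by
    have := orderOf_dvd_natCard (⟨t, ht.1⟩ : T)
    rwa [Subgroup.orderOf_mk] at this
  have h4 : orderOf t ∣ 1 := by
    rw [← Nat.Coprime.gcd_eq_one h.cop]
    exact Nat.dvd_gcd (orderOf_dvd_of_pow_eq_one h1) h3
  have h5 : t = 1 := orderOf_eq_one_iff.1 (Nat.dvd_one.1 h4)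
  rw [h5, mul_one]
  exact hu

theorem norm_Q [Finite Y] (h : UCtx T U M) : normalizer (h.Q : Set Y) = M := by
  refine le_antisymm ?_ h.le_norm_Q
  refine h.ovr _ (h.TM.trans h.le_norm_Q) fun e => ?_
  have h1 : ∀ g : Y, g ∈ normalizer (U : Set Y) := by
    have key : ∀ g : Y, ∀ x ∈ U, g * x * g⁻¹ ∈ U := by
      intro g x hx
      have hg : g ∈ normalizer (h.Q : Set Y) := by rw [e]; exact mem_top g
      refine h.mem_U_of_pow ((mem_normalizer_iff.1 hg x).1 ((le_sup_left : U ≤ h.Q) hx)) ?_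
      rw [conj_pow]
      have h2 : x ^ Nat.card U = 1 := by
        have := pow_card_eq_one' (x := (⟨x, hx⟩ : U))
        exact congrArg Subtype.val this
      rw [h2, mul_one, mul_inv_cancel]
    intro g
    rw [mem_normalizer_iff]
    intro x
    refine ⟨key g x, fun hx => ?_⟩
    have h2 := key g⁻¹ _ hx
    have e2 : g⁻¹ * (g * x * g⁻¹) * g⁻¹⁻¹ = x := by group
    rwa [e2] at h2
  exact h.ne (eq_top_iff.2 fun g _ => h.nU' (h1 g))

/-- **The end of the unipotent case.** No bad pairs, and two involutions of `T / Z(Y)` that are not conjugate in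
`M / Z(Y)`: contradiction. -/
theorem false_of_two [Finite Y] (h : UCtx T U M)
    (hbad : ∀ f b, Bad T M f b → b ∈ normalizer (T : Set Y) → False)
    {s t : Y} (hs : s ∈ T) (hsZ : s ∉ center Y) (hs2 : s ^ 2 ∈ center Y)
    (ht : t ∈ T) (htZ : t ∉ center Y) (ht2 : t ^ 2 ∈ center Y)
    (hne : ∀ m ∈ M, m * s * m⁻¹ * t⁻¹ ∉ center Y) : False := by
  classical
  have hb : ∀ f b, ¬ Bad T M f b := by
    intro f b h1
    obtain ⟨f', b', h2, h3⟩ := h1.exists_norm h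
    exact hbad f' b' h2 h3
  let π := QuotientGroup.mk' (center Y)
  have hπ : Function.Surjective π := QuotientGroup.mk'_surjective _
  have hk : ∀ {x : Y}, π x = 1 ↔ x ∈ center Y := fun {x} => QuotientGroup.eq_one_iff x
  have hQ : ∀ {x : Y}, π x ∈ h.Q.map π ↔ x ∈ h.Q := by
    intro x
    constructor
    · rintro ⟨y, hy, e⟩
      have h1 : y⁻¹ * x ∈ center Y := by
        rw [← hk, map_mul, map_inv, e, inv_mul_cancel]
      have e2 : x = y * (y⁻¹ * x) := by group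
      rw [e2]
      exact mul_mem hy (h.center_le_Q h1)
    · exact fun hx => ⟨x, hx, rfl⟩
  have hN : ∀ {g : Y}, π g ∈ normalizer (h.Q.map π : Set (Y ⧸ center Y)) ↔ g ∈ M := by
    intro g
    have e0 : g ∈ M ↔ g ∈ normalizer (h.Q : Set Y) := by rw [h.norm_Q]
    rw [e0, mem_normalizer_iff, mem_normalizer_iff]
    constructor
    · intro h1 x
      have h2 := h1 (π x)
      rwa [← map_inv, ← map_mul, ← map_mul, hQ, hQ] at h2
    · intro h1 x
      obtain ⟨x, rfl⟩ := hπ x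
      rw [← map_inv, ← map_mul, ← map_mul, hQ, hQ]
      exact h1 x
  have hsQ : π s ∈ h.Q.map π := hQ.2 ((le_sup_right : h.twoPart ≤ h.Q) ⟨hs, 1, by rwa [pow_one]⟩)
  have htQ : π t ∈ h.Q.map π := hQ.2 ((le_sup_right : h.twoPart ≤ h.Q) ⟨ht, 1, by rwa [pow_one]⟩)
  have hos : orderOf (π s) = 2 := orderOf_eq_prime (by rw [← map_pow, hk]; exact hs2) (fun e => hsZ (hk.1 e))
  have hot : orderOf (π t) = 2 := orderOf_eq_prime (by rw [← map_pow, hk]; exact ht2) (fun e => htZ (hk.1 e))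
  have hodd : ∀ g : Y ⧸ center Y, g ∉ normalizer (h.Q.map π : Set (Y ⧸ center Y)) →
      Odd (Nat.card ↥((h.Q.map π).map (MulAut.conj g).toMonoidHom ⊓
        normalizer (h.Q.map π : Set (Y ⧸ center Y)))) := by
    intro g hg
    obtain ⟨g, rfl⟩ := hπ g
    rw [← Nat.not_even_iff_odd, even_iff_two_dvd]
    intro h2
    have f2 : Fact (Nat.Prime 2) := ⟨Nat.prime_two⟩
    obtain ⟨⟨y, hy12⟩, hy⟩ := exists_prime_orderOf_dvd_card' 2 h2
    rw [Subgroup.orderOf_mk] at hy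
    obtain ⟨hy1, hy2⟩ := mem_inf.1 hy12
    obtain ⟨x, ⟨x', hx', rfl⟩, e⟩ := hy1
    change π g * π x' * (π g)⁻¹ = y at e
    rw [← map_inv, ← map_mul, ← map_mul] at e
    rw [← e] at hy2 hy
    have hy2' : g * x' * g⁻¹ ∈ M := hN.1 hy2
    have hsq : (g * x' * g⁻¹) ^ 2 ∈ center Y := by
      rw [← hk, map_pow, ← hy, pow_orderOf_eq_one]
    have hne' : g * x' * g⁻¹ ∉ center Y := by
      intro h3
      rw [← hk] at h3
      rw [h3, orderOf_one] at hy
      omega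
    have hsq' : x' ^ 2 ∈ center Y := by
      rw [conj_pow] at hsq
      have h3 := Normal.conj_mem inferInstance _ hsq g⁻¹
      have e3 : g⁻¹ * (g * x' ^ 2 * g⁻¹) * g⁻¹⁻¹ = x' ^ 2 := by group
      rwa [e3] at h3
    obtain ⟨u, hu, n, hn, e4⟩ := h.mem_Q hx'
    obtain ⟨v, hv, e5⟩ := h.exists_conj hu (le_normalizer hn.1) (e4 ▸ hsq')
    rw [← e4] at e5
    refine hb (v * g⁻¹) (g * x' * g⁻¹) ⟨?_, hy2', ?_, hne', hsq⟩
    · intro h3
      apply hg
      rw [hN]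
      have h4 := mul_mem (inv_mem (h.UM hv)) h3
      rw [inv_mul_cancel_left] at h4
      simpa using inv_mem h4
    · have e6 : v * g⁻¹ * (g * x' * g⁻¹) * (v * g⁻¹)⁻¹ = v * x' * v⁻¹ := by group
      rw [e6, e5]
      exact hn.1
  have htight : Cfsg.IsTightlyEmbedded (h.Q.map π) := by
    refine ⟨?_, fun g hg => ?_⟩
    · rw [even_iff_two_dvd, ← hos]
      have := orderOf_dvd_natCard (⟨π s, hsQ⟩ : h.Q.map π)
      rwa [Subgroup.orderOf_mk] at this
    · have h1 := hodd g hg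
      rw [← Nat.not_even_iff_odd, even_iff_two_dvd] at h1 ⊢
      intro h2
      refine h1 (h2.trans (card_dvd_of_le ?_))
      rintro x ⟨hx1, hx2⟩
      exact ⟨hx2, le_normalizer hx1⟩
  rcases Cfsg.Agent.S1911.result _ htight hodd with hnor | hse
  · apply h.ne
    rw [eq_top_iff]
    intro g _
    rw [← hN, normalizer_eq_top_iff.2 hnor]
    exact mem_top _
  · obtain ⟨w, hw, hwN⟩ := H252.ZNCtx.exists_outside hse
    have hle : h.Q.map π ≤ normalClosure (h.Q.map π : Set (Y ⧸ center Y)) := le_normalClosure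
    obtain ⟨⟨d, hd, e⟩, -⟩ := Cfsg.Agent.S1225.result _ hse w hw hwN ⟨π s, hle hsQ⟩ ⟨π t, hle htQ⟩
      (by rw [Subgroup.orderOf_mk]; exact hos) (hN.2 (h.TM hs)) (by rw [Subgroup.orderOf_mk]; exact hot)
      (hN.2 (h.TM ht))
    obtain ⟨m, hm⟩ := hπ (d : Y ⧸ center Y)
    have hmM : m ∈ M := by
      rw [← hN, hm]
      exact (mem_inf.1 hd).1
    apply hne m hmM
    rw [← hk, map_mul, map_mul, map_mul, map_inv, map_inv, hm, mul_inv_eq_one]
    exact congrArg Subtype.val e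

end UCtx

end Cfsg.Agent.H175.OT
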